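import Cfsg.Agent.Lib.Lie.BNNormal

/-!
# The derived group of a (B, N)-pair group with an invariant character of order two
-/

set_option autoImplicit false

namespace CfsgLib.Lie.Chev.Tits

open scoped commutatorElement

variable {G : Type*} [Group G] [Finite G]

/-- the transfer of an invariant character into a group of order two -/
theorem transfer_eq {H : Subgroup G} (χ : ↥H →* Multiplicative (ZMod 2))
    (hinv : ∀ (g y : G) (hy : y ∈ H) (h : g * y * g⁻¹ ∈ H), χ ⟨g * y * g⁻¹, h⟩ = χ ⟨y, hy⟩)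
    (hodd : Odd H.index) (x : ↥H) : MonoidHom.transfer χ (x : G) = χ x := by
  rw [CfsgLib.Lie.transfer_of_invariant χ hinv x]
  obtain ⟨k, hk⟩ := hodd
  have h2 : ∀ a : Multiplicative (ZMod 2), a ^ 2 = 1 := by decide
  rw [hk, pow_succ, pow_mul, h2, one_pow, one_mul]

/-- a group generated by an element and the derived group is cyclic, if nilpotent -/
theorem comm_of_cyclic_mod_derived {Q : Type*} [Group Q] [Finite Q] [Group.IsNilpotent Q] (x : Q)
    (h : Subgroup.zpowers x ⊔ commutator Q = ⊤) : ∀ a b : Q, a * b = b * a := by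
  have htop : Subgroup.zpowers x = ⊤ := by
    by_contra hne
    obtain ⟨M, hM, hle⟩ := (eq_top_or_exists_le_coatom (Subgroup.zpowers x)).resolve_left hne
    have hn : M.Normal := Subgroup.NormalizerCondition.normal_of_coatom M
      (Group.normalizerCondition_of_isNilpotent (G := Q)) hM
    have : Nontrivial (Q ⧸ M) := by
      obtain ⟨a, ha⟩ : ∃ a, a ∉ M := by
        by_contra hall
        simp only [not_exists, not_not] at hall
        exact hM.1 (eq_top_iff.2 fun a _ => hall a)
      exact ⟨⟨QuotientGroup.mk a, 1, fun e => ha ((QuotientGroup.eq_one_iff a).1 e)⟩⟩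
    have h1 := Group.IsSolvable.commutator_lt_top_of_nontrivial (G := Q ⧸ M)
    have h2 : (⊤ : Subgroup Q).map (QuotientGroup.mk' M) ≤ commutator (Q ⧸ M) := by
      rw [← h, Subgroup.map_sup, sup_le_iff]
      refine ⟨?_, ?_⟩
      · rintro - ⟨y, hy, rfl⟩
        rw [QuotientGroup.mk'_apply, (QuotientGroup.eq_one_iff y).2 (hle hy)]
        exact one_mem _
      · rw [commutator_def, Subgroup.map_commutator, commutator_def]
        exact Subgroup.commutator_mono le_top le_top
    rw [Subgroup.map_top_of_surjective _ (QuotientGroup.mk'_surjective M)] at h2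
    exact h1.ne (top_le_iff.1 h2)
  intro a b
  obtain ⟨m, rfl⟩ := Subgroup.mem_zpowers_iff.1 (htop ▸ Subgroup.mem_top a : a ∈ Subgroup.zpowers x)
  obtain ⟨n, rfl⟩ := Subgroup.mem_zpowers_iff.1 (htop ▸ Subgroup.mem_top b : b ∈ Subgroup.zpowers x)
  rw [← zpow_add, ← zpow_add, add_comm]

/-- index two, simplicity -/
theorem derived_simple (P : Cfsg.BNPair G) (hirr : P.Irreducible) (hcore : P.B.normalCore = ⊥)
    (hB : IsPGroup 2 ↥P.B) (χ : ↥P.B →* Multiplicative (ZMod 2))
    (hS : ∀ s ∈ P.S, ∀ (y : G) (hy : y ∈ P.B) (h : s * y * s⁻¹ ∈ P.B),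
      χ ⟨s * y * s⁻¹, h⟩ = χ ⟨y, hy⟩)
    (hodd : Odd P.B.index) (b0 : ↥P.B) (hb0 : χ b0 ≠ 1)
    (hab : ∀ b ∈ P.B, Abelianization.of b = 1 ∨ Abelianization.of b = Abelianization.of (b0 : G))
    (hnc : ∃ x y : G, x * y ≠ y * x) (hsq : ∀ k : ℕ, k * k * 2 ≠ Nat.card G)
    (hpr : ∀ p : ℕ, p.Prime → p * 2 ≠ Nat.card G) :
    (commutator G).index = 2 ∧ IsSimpleGroup ↥(commutator G) ∧ ¬ IsMulCommutative ↥(commutator G) ∧
      Nat.card ↥(commutator G) * 2 = Nat.card G ∧ ∀ x : ↥P.B, (x : G) ∈ commutator G ↔ χ x = 1 := by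
  classical
  set τ := MonoidHom.transfer χ with hτdef
  have hτ : ∀ x : ↥P.B, τ (x : G) = χ x :=
    transfer_eq χ (CfsgLib.Lie.BN.hom_conj_invariant P χ hS) hodd
  have hker : commutator G ≤ τ.ker := Abelianization.commutator_subset_ker τ
  have hne : commutator G ≠ ⊥ := by
    intro e
    obtain ⟨x, y, hxy⟩ := hnc
    rw [commutator_def, Subgroup.commutator_eq_bot_iff_le_centralizer] at e
    exact hxy (Subgroup.mem_centralizer_iff.1 (e (Subgroup.mem_top x)) y (Subgroup.mem_top y)).symm
  have hsup := CfsgLib.Lie.BN.sup_B_eq_top_of_normal P hirr hcore (commutator G) inferInstance hne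
  have hgen : ∀ z : G, Abelianization.of z = 1 ∨ Abelianization.of z = Abelianization.of (b0 : G) := by
    intro z
    have hz : z ∈ commutator G ⊔ P.B := hsup ▸ Subgroup.mem_top z
    obtain ⟨c, hc, b, hb, rfl⟩ := Subgroup.mem_sup_of_normal_left.1 hz
    have hc1 : Abelianization.of c = 1 := (QuotientGroup.eq_one_iff c).2 hc
    rw [map_mul, hc1, one_mul]
    exact hab b hb
  have hb0' : (b0 : G) ∉ commutator G := fun h => hb0 ((hτ b0).symm.trans (hker h))
  have hindex : (commutator G).index = 2 := by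
    rw [Subgroup.index_eq_two_iff]
    refine ⟨(b0 : G), fun z => ?_⟩
    rcases hgen z with h | h
    · have hz : z ∈ commutator G := (QuotientGroup.eq_one_iff z).1 h
      exact Or.inr ⟨hz, fun h' => hb0' (by simpa using mul_mem (inv_mem hz) h')⟩
    · have hz : z ∉ commutator G := fun hz => hb0' ((QuotientGroup.eq_one_iff _).1
        (h.symm.trans ((QuotientGroup.eq_one_iff z).2 hz)))
      refine Or.inl ⟨(QuotientGroup.eq_one_iff _).1 ?_, hz⟩
      have hb2 : Abelianization.of ((b0 : G) * b0) = 1 := by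
        rcases hgen ((b0 : G) * b0) with h2 | h2
        · exact h2
        · rw [map_mul] at h2 ⊢
          exact absurd ((QuotientGroup.eq_one_iff _).1 (mul_eq_left.1 h2)) hb0'
      show Abelianization.of (z * b0) = 1
      rw [map_mul, h, ← map_mul, hb2]
  have hcard : Nat.card ↥(commutator G) * 2 = Nat.card G := hindex ▸ (commutator G).card_mul_index
  have hmem : ∀ x : ↥P.B, (x : G) ∈ commutator G ↔ χ x = 1 := fun x => by
    refine ⟨fun h => (hτ x).symm.trans (hker h), fun h => ?_⟩
    rcases hgen (x : G) with h' | h'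
    · exact (QuotientGroup.eq_one_iff _).1 h'
    · exfalso
      have h1 : (x : G)⁻¹ * b0 ∈ commutator G := by
        refine (QuotientGroup.eq_one_iff _).1 ?_
        show Abelianization.of ((x : G)⁻¹ * b0) = 1
        rw [map_mul, map_inv, h', inv_mul_cancel]
      have h2 : τ ((x : G)⁻¹ * b0) = 1 := hker h1
      rw [map_mul, map_inv, hτ, hτ, h, inv_one, one_mul] at h2
      exact hb0 h2
  have hmin : ∀ N : Subgroup G, N.Normal → N ≠ ⊥ → commutator G ≤ N := by
    intro N hN hN0
    have hs := CfsgLib.Lie.BN.sup_B_eq_top_of_normal P hirr hcore N hN hN0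
    have hsurj : Function.Surjective ((QuotientGroup.mk' N).comp P.B.subtype) := by
      intro z
      obtain ⟨w, rfl⟩ := QuotientGroup.mk'_surjective N z
      have hw : w ∈ N ⊔ P.B := hs ▸ Subgroup.mem_top w
      obtain ⟨n, hn, b, hb, rfl⟩ := Subgroup.mem_sup_of_normal_left.1 hw
      refine ⟨⟨b, hb⟩, QuotientGroup.eq.2 ?_⟩
      simpa [mul_assoc] using hN.conj_mem n hn b⁻¹
    haveI : Fact (Nat.Prime 2) := ⟨Nat.prime_two⟩
    haveI : Group.IsNilpotent (G ⧸ N) := (hB.of_surjective _ hsurj).isNilpotent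
    have hx : Subgroup.zpowers (QuotientGroup.mk' N (b0 : G)) ⊔ commutator (G ⧸ N) = ⊤ := by
      rw [eq_top_iff]
      intro z _
      obtain ⟨w, rfl⟩ := QuotientGroup.mk'_surjective N z
      have hmap : (commutator G).map (QuotientGroup.mk' N) ≤ commutator (G ⧸ N) := by
        rw [commutator_def, Subgroup.map_commutator, commutator_def]
        exact Subgroup.commutator_mono le_top le_top
      rcases hgen w with h | h
      · exact Subgroup.mem_sup_right (hmap ⟨w, (QuotientGroup.eq_one_iff w).1 h, rfl⟩)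
      · have h1 : (b0 : G)⁻¹ * w ∈ commutator G := by
          refine (QuotientGroup.eq_one_iff _).1 ?_
          show Abelianization.of ((b0 : G)⁻¹ * w) = 1
          rw [map_mul, map_inv, h, inv_mul_cancel]
        rw [show w = (b0 : G) * ((b0 : G)⁻¹ * w) by group, map_mul]
        exact mul_mem (Subgroup.mem_sup_left (Subgroup.mem_zpowers _))
          (Subgroup.mem_sup_right (hmap ⟨_, h1, rfl⟩))
    have hcomm := comm_of_cyclic_mod_derived _ hx
    rw [commutator_def, Subgroup.commutator_le]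
    intro a _ b _
    refine (QuotientGroup.eq_one_iff _).1 ?_
    show QuotientGroup.mk' N ⁅a, b⁆ = 1
    rw [map_commutatorElement, commutatorElement_eq_one_iff_mul_comm]
    exact hcomm _ _
  haveI hnt : Nontrivial ↥(commutator G) := (Subgroup.nontrivial_iff_ne_bot _).2 hne
  have hsimple : IsSimpleGroup ↥(commutator G) := by
    refine { eq_bot_or_eq_top_of_normal := fun H hH => or_iff_not_imp_left.2 fun hH0 => ?_ }
    set L := H.map (commutator G).subtype with hL
    have hLG : L ≤ commutator G := Subgroup.map_subtype_le H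
    have hLc : ∀ c ∈ commutator G, ∀ y ∈ L, c * y * c⁻¹ ∈ L := by
      rintro c hc - ⟨y, hy, rfl⟩
      exact ⟨⟨c, hc⟩ * y * ⟨c, hc⟩⁻¹, hH.conj_mem y hy _, by simp⟩
    set L' := L.map (MulAut.conj (b0 : G)).toMonoidHom with hL'
    have hGG : ∀ z : G, ∀ c ∈ commutator G, z * c * z⁻¹ ∈ commutator G := fun z c hc =>
      (inferInstance : (commutator G).Normal).conj_mem c hc z
    have hL'c : ∀ c ∈ commutator G, ∀ y ∈ L', c * y * c⁻¹ ∈ L' := by
      rintro c hc - ⟨y, hy, rfl⟩
      refine ⟨((b0 : G)⁻¹ * c * (b0 : G)⁻¹⁻¹) * y * ((b0 : G)⁻¹ * c * (b0 : G)⁻¹⁻¹)⁻¹,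
        hLc _ (hGG _ c hc) y hy, ?_⟩
      simp [MulAut.conj_apply, mul_assoc]
    have hL'G : L' ≤ commutator G := by
      rintro - ⟨y, hy, rfl⟩
      exact hGG _ y (hLG hy)
    have hb2 : (b0 : G) * b0 ∈ commutator G := by
      have := (commutator G).pow_index_mem (b0 : G)
      rwa [hindex, pow_two] at this
    have hswap : ∀ y ∈ L', (b0 : G) * y * (b0 : G)⁻¹ ∈ L := by
      rintro - ⟨y, hy, rfl⟩
      have := hLc _ hb2 y hy
      simpa [MulAut.conj_apply, mul_assoc] using this
    have hswap' : ∀ y ∈ L, (b0 : G) * y * (b0 : G)⁻¹ ∈ L' := fun y hy => ⟨y, hy, rfl⟩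
    have hnorm : ∀ S : Subgroup G, (∀ c ∈ commutator G, ∀ y ∈ S, c * y * c⁻¹ ∈ S) →
        (∀ y ∈ S, (b0 : G) * y * (b0 : G)⁻¹ ∈ S) → S.Normal := by
      intro S h1 h2
      refine ⟨fun y hy z => ?_⟩
      rcases hgen z with h | h
      · exact h1 z ((QuotientGroup.eq_one_iff z).1 h) y hy
      · have hz : z * (b0 : G)⁻¹ ∈ commutator G := by
          refine (QuotientGroup.eq_one_iff _).1 ?_
          show Abelianization.of (z * (b0 : G)⁻¹) = 1
          rw [map_mul, map_inv, h, mul_inv_cancel]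
        have := h1 _ hz _ (h2 y hy)
        simpa [mul_assoc] using this
    have hinf : (L ⊓ L').Normal := hnorm _
      (fun c hc y hy => ⟨hLc c hc y hy.1, hL'c c hc y hy.2⟩)
      (fun y hy => ⟨hswap y hy.2, hswap' y hy.1⟩)
    by_cases hd : L ⊓ L' = ⊥
    · exfalso
      have hmapc : ∀ (S : Subgroup G) (x : G) (T : Subgroup G), (∀ y ∈ S, x * y * x⁻¹ ∈ T) →
          S.map (MulAut.conj x).toMonoidHom ≤ T := by
        rintro S x T h - ⟨y, hy, rfl⟩
        exact h y hy
      have hsupn : (L ⊔ L').Normal := by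
        refine hnorm _ (fun c hc y hy => ?_) (fun y hy => ?_)
        · have h := (Subgroup.map_sup L L' (MulAut.conj c).toMonoidHom).le.trans
            (sup_le_sup (hmapc L c L (hLc c hc)) (hmapc L' c L' (hL'c c hc)))
          exact h ⟨y, hy, rfl⟩
        · have h := ((Subgroup.map_sup L L' (MulAut.conj (b0 : G)).toMonoidHom).le.trans
            (sup_le_sup (hmapc L (b0 : G) L' hswap') (hmapc L' (b0 : G) L hswap))).trans (le_of_eq (sup_comm _ _))
          exact h ⟨y, hy, rfl⟩
      have hL0 : L ≠ ⊥ := fun e => hH0 (by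
        rwa [hL, Subgroup.map_eq_bot_iff_of_injective _ (Subgroup.subtype_injective _)] at e)
      have heq : L ⊔ L' = commutator G := le_antisymm (sup_le hLG hL'G)
        (hmin _ hsupn fun e => hL0 (eq_bot_iff.2 (le_sup_left.trans e.le)))
      have hsurj : ∀ z ∈ L ⊔ L', ∃ x ∈ L, ∃ y ∈ L', z = x * y := by
        intro z hz
        rw [Subgroup.sup_eq_closure] at hz
        induction hz using Subgroup.closure_induction with
        | mem y hy =>
          rcases hy with hy | hy
          · exact ⟨y, hy, 1, one_mem _, (mul_one y).symm⟩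
          · exact ⟨1, one_mem _, y, hy, (one_mul y).symm⟩
        | one => exact ⟨1, one_mem _, 1, one_mem _, (mul_one 1).symm⟩
        | mul u v _ _ hu hv =>
          obtain ⟨x, hx, y, hy, rfl⟩ := hu
          obtain ⟨x', hx', y', hy', rfl⟩ := hv
          exact ⟨x * (y * x' * y⁻¹), mul_mem hx (hLc y (hL'G hy) x' hx'), y * y', mul_mem hy hy',
            by group⟩
        | inv u _ hu =>
          obtain ⟨x, hx, y, hy, rfl⟩ := hu
          exact ⟨y⁻¹ * x⁻¹ * y⁻¹⁻¹, hLc _ (inv_mem (hL'G hy)) _ (inv_mem hx), y⁻¹, inv_mem hy, by group⟩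
      have hbij : Function.Bijective (fun z : ↥L × ↥L' =>
          (⟨z.1.1 * z.2.1, mul_mem (hLG z.1.2) (hL'G z.2.2)⟩ : ↥(commutator G))) := by
        refine ⟨fun z w e => ?_, fun z => ?_⟩
        · have e' : z.1.1 * z.2.1 = w.1.1 * w.2.1 := congrArg Subtype.val e
          have h1 : w.1.1⁻¹ * z.1.1 = w.2.1 * z.2.1⁻¹ := by
            rw [eq_mul_inv_iff_mul_eq, mul_assoc, e', inv_mul_cancel_left]
          have h2 : w.1.1⁻¹ * z.1.1 = 1 := Subgroup.mem_bot.1 (hd ▸ Subgroup.mem_inf.2
            ⟨mul_mem (inv_mem w.1.2) z.1.2, h1 ▸ mul_mem w.2.2 (inv_mem z.2.2)⟩)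
          rw [inv_mul_eq_one] at h2
          rw [← h2] at e'
          exact Prod.ext (Subtype.ext h2.symm) (Subtype.ext (mul_left_cancel e'))
        · obtain ⟨x, hx, y, hy, e⟩ := hsurj z (heq.symm ▸ z.2)
          exact ⟨(⟨x, hx⟩, ⟨y, hy⟩), Subtype.ext e.symm⟩
      have hc2 := Nat.card_eq_of_bijective _ hbij
      rw [Nat.card_prod, hL', Nat.card_congr (L.equivMapOfInjective _ (MulEquiv.injective _)).toEquiv.symm]
        at hc2
      exact hsq _ (by rw [hc2, hcard])
    · have h := hmin _ hinf hd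
      rw [eq_top_iff]
      intro z _
      obtain ⟨y, hy, e⟩ := (h z.2).1
      exact (Subtype.ext e : y = z) ▸ hy
  refine ⟨hindex, hsimple, fun hc => ?_, hcard, hmem⟩
  haveI := hsimple
  obtain ⟨hc'⟩ := hc
  letI : CommGroup ↥(commutator G) := { (inferInstance : Group ↥(commutator G)) with mul_comm := hc'.comm }
  exact hpr _ IsSimpleGroup.prime_card hcard

end CfsgLib.Lie.Chev.Tits
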