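import Cfsg.Agent.Lib.Lie.Chev.Tits.Swap
import Cfsg.Agent.Lib.Lie.Chev.Tits.Abstract

/-!
# The derived group of ²F₄(2)
-/

set_option autoImplicit false
set_option maxRecDepth 100000
set_option maxHeartbeats 400000

namespace CfsgLib.Lie.Chev.Tits

open Cfsg.Lie
open scoped MatrixGroups

theorem words_eval : cjW 4 5 = [5, 9] ∧ cjW 0 10 = [10, 11] ∧ cjW 3 8 = [8, 10] ∧ cjW 2 4 = [4, 8] ∧
    cjW 0 4 = [4, 7] ∧ cjW 1 5 = [5, 6] ∧ cjW 1 2 = [2, 4, 5, 8] ∧
    cjW 0 1 = [1, 2, 4, 6, 10, 11] ∧ sqW.getD 4 [] = [11] ∧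
    swW 0 1 = [2] ∧ swW 0 3 = [7] ∧ swW 1 0 = [6] ∧
    inX 0 1 = false ∧ inX 0 3 = false ∧ inX 1 0 = false ∧ kind 4 = true := by decide +kernel

theorem oddGo_nil (u : List ℕ) (b : Bool) : oddGo [] u b = (!b || (match List.foldr (ins tT 100) u u with
    | [] => false
    | m :: l => l.all fun x => Nat.blt m x)) := rfl

theorem oddGo_cons (i : ℕ) (L u : List ℕ) (b : Bool) : oddGo (i :: L) u b =
    (oddGo L u b && oddGo L (List.foldr (ins tT 100) u (gen i)) (xor (kind i) b)) := rfl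

attribute [local irreducible] collect tT gen flat cjW kind TF4.C chevF4 swW mapTab inX oddGo ins

theorem g_mem_Γ {k : ℕ} (hk : k < 12) : g k ∈ Γ := by
  have h := g_mem_Ks (Nat.zero_le k) hk
  rw [Ks0_eq] at h
  exact h.2

/-- generators as elements of the group -/
noncomputable def gΓ (k : ℕ) : ↥Γ := if h : k < 12 then ⟨g k, g_mem_Γ h⟩ else 1

theorem gΓ_val {k : ℕ} (hk : k < 12) : (gΓ k : GL chevF4.Idx (ZMod 2)) = g k := by
  rw [gΓ, dif_pos hk]

theorem gΓ_word {W : List ℕ} (hW : ∀ k ∈ W, k < 12) :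
    (((W.map gΓ).prod : ↥Γ) : GL chevF4.Idx (ZMod 2)) = (W.map g).prod := by
  induction W with
  | nil => rfl
  | cons k W ih =>
    rw [List.map_cons, List.map_cons, List.prod_cons, List.prod_cons, Subgroup.coe_mul,
      gΓ_val (hW k (by simp)), ih fun x hx => hW x (List.mem_cons_of_mem _ hx)]

/-- classes of the generators -/
noncomputable def a (k : ℕ) : Abelianization ↥Γ := Abelianization.of (gΓ k)

theorem a_word (W : List ℕ) : Abelianization.of ((W.map gΓ).prod) = (W.map a).prod := by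
  rw [map_list_prod, List.map_map]
  rfl

/-- conjugate elements have the same class -/
theorem of_conj {G : Type*} [Group G] (x y : G) :
    Abelianization.of (x * y * x⁻¹) = Abelianization.of y := by
  rw [map_mul, map_mul, map_inv, mul_inv_cancel_comm]

theorem rel_conj {i j : ℕ} (hi : i < 12) (hj : j < 12) : ((cjW i j).map a).prod = a j := by
  rw [← a_word, a, ← of_conj (gΓ i) (gΓ j)]
  refine congrArg _ (Subtype.ext ?_)
  rw [gΓ_word (fun k hk => (chk_conj_lt i hi j hj k hk).1), ← conj_eq hi hj, Subgroup.coe_mul,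
    Subgroup.coe_mul, Subgroup.coe_inv, gΓ_val hi, gΓ_val hj]

theorem rel_sq {i : ℕ} (hi : i < 12) : ((sqW.getD i []).map a).prod = a i * a i := by
  rw [← a_word, a, ← map_mul]
  refine congrArg _ (Subtype.ext ?_)
  rw [gΓ_word (fun k hk => ((chk_sq i hi).2.2 k hk).2), ← sq_eq hi, Subgroup.coe_mul, gΓ_val hi]

theorem rel_swap (o : Fin orbGraphF4.no) {j : ℕ} (hj : j < 12) (hX : inX o.val j = false) :
    ((swW o.val j).map a).prod = a j := by
  rcases chk_swap o.val (o_lt o) j hj with ⟨h, -⟩ | ⟨-, hp, he, -, hlt⟩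
  · rw [h] at hX; exact absurd hX (by decide)
  have hlt' : ∀ k ∈ swW o.val j, k < 12 := fun k hk => of_decide_eq_true (List.all_eq_true.1 hlt k hk)
  rw [← a_word, a, ← of_conj (⟨sw o, sw_mem o⟩ : ↥Γ) (gΓ j)]
  refine congrArg _ (Subtype.ext ?_)
  rw [gΓ_word hlt', ← ev_flat,
    ← ev_eq (fun x hx => of_decide_eq_true (List.all_eq_true.1 hp x hx)) (flat_pos hlt') he,
    ← sw_ev o _ (gen_pos hj), Subgroup.coe_mul, Subgroup.coe_mul, Subgroup.coe_inv, gΓ_val hj, g]

theorem a_vals : a 4 * a 4 = 1 ∧ ∀ k, k < 12 → a k = 1 ∨ a k = a 4 := by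
  obtain ⟨w45, w010, w38, w24, w04, w15, w12, w01, s4, t1, t3, t0, x1, x3, x0, -⟩ := words_eval
  have e45 := rel_conj (i := 4) (j := 5) (by omega) (by omega)
  have e010 := rel_conj (i := 0) (j := 10) (by omega) (by omega)
  have e38 := rel_conj (i := 3) (j := 8) (by omega) (by omega)
  have e24 := rel_conj (i := 2) (j := 4) (by omega) (by omega)
  have e04 := rel_conj (i := 0) (j := 4) (by omega) (by omega)
  have e15 := rel_conj (i := 1) (j := 5) (by omega) (by omega)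
  have e12 := rel_conj (i := 1) (j := 2) (by omega) (by omega)
  have e01 := rel_conj (i := 0) (j := 1) (by omega) (by omega)
  have es := rel_sq (i := 4) (by omega)
  have o0v : (TF4.o0).val = 0 := rfl
  have o1v : (TF4.o1).val = 1 := rfl
  have et1 := rel_swap TF4.o0 (j := 1) (by omega) (by rw [o0v]; exact x1)
  have et3 := rel_swap TF4.o0 (j := 3) (by omega) (by rw [o0v]; exact x3)
  have et0 := rel_swap TF4.o1 (j := 0) (by omega) (by rw [o1v]; exact x0)
  rw [o0v, t1] at et1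
  rw [o0v, t3] at et3
  rw [o1v, t0] at et0
  rw [w45] at e45; rw [w010] at e010; rw [w38] at e38; rw [w24] at e24; rw [w04] at e04
  rw [w15] at e15; rw [w12] at e12; rw [w01] at e01; rw [s4] at es
  simp only [List.map_cons, List.map_nil, List.prod_cons, List.prod_nil, mul_one] at e45 e010 e38 e24 e04 e15 e12 e01 es et1 et3 et0
  have h9 : a 9 = 1 := mul_eq_left.1 e45
  have h11 : a 11 = 1 := mul_eq_left.1 e010
  have h10 : a 10 = 1 := mul_eq_left.1 e38
  have h8 : a 8 = 1 := mul_eq_left.1 e24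
  have h7 : a 7 = 1 := mul_eq_left.1 e04
  have h6 : a 6 = 1 := mul_eq_left.1 e15
  have h44 : a 4 * a 4 = 1 := by rw [← es, h11]
  have h5 : a 5 = a 4 := by
    rw [h8, mul_one] at e12
    have h := mul_eq_left.1 e12
    exact mul_left_cancel (h.trans h44.symm)
  have h2 : a 2 = a 4 := by
    rw [h6, h10, h11, mul_one, mul_one, mul_one] at e01
    have h := mul_eq_left.1 e01
    exact mul_right_cancel (h.trans h44.symm)
  have h1 : a 1 = a 4 := et1.symm.trans h2
  have h3 : a 3 = 1 := et3.symm.trans h7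
  have h0 : a 0 = 1 := et0.symm.trans h6
  refine ⟨h44, fun k hk => ?_⟩
  interval_cases k
  exacts [Or.inl h0, Or.inr h1, Or.inr h2, Or.inl h3, Or.inr rfl, Or.inr h5, Or.inl h6, Or.inl h7,
    Or.inl h8, Or.inl h9, Or.inl h10, Or.inl h11]

/-- the Borel subgroup is the unipotent group -/
theorem borel_eq : chevF4.borelSubgroup (ZMod 2) ⊓ Γ = Ks 0 := by
  rw [Ks0_eq]
  refine le_antisymm (fun x hx => ?_) fun x hx => ⟨Subgroup.mem_sup_left hx.1, hx.2⟩
  obtain ⟨v, hv, d, hd, rfl⟩ := twGp.borel_fix hx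
  have h1 : chevF4.diagonalSubgroup (ZMod 2) ⊓ Γ = ⊥ := Subgroup.card_eq_one.1 card_facts.2.1
  rw [← twGp.H_eq, h1] at hd
  rw [← twGp.U_eq] at hv
  rw [Subgroup.mem_bot.1 hd, mul_one]
  exact hv

/-- the Borel subgroup of the group -/
noncomputable abbrev B : Subgroup ↥Γ := twGp.bnPair.B

theorem mem_B {x : ↥Γ} : x ∈ B ↔ (x : GL chevF4.Idx (ZMod 2)) ∈ Ks 0 := by
  rw [← borel_eq]
  exact Subgroup.mem_subgroupOf

/-- restriction to the unipotent group -/
noncomputable def toK : ↥B →* ↥(Ks 0) :=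
  ((Γ.subtype).comp B.subtype).codRestrict (Ks 0) fun x => mem_B.1 x.2

/-- the character of the Borel subgroup -/
noncomputable def χB : ↥B →* Multiplicative (ZMod 2) := χ0.comp toK

theorem card_B : Nat.card ↥B = 4096 := by
  rw [show B = (chevF4.borelSubgroup (ZMod 2) ⊓ Γ).subgroupOf Γ from rfl]
  rw [Nat.card_congr (Subgroup.subgroupOfEquivOfLe inf_le_right).toEquiv, borel_eq, card_Ks0]
  norm_num

theorem B_index : B.index = 8775 := by
  have h := B.card_mul_index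
  rw [card_B, card_facts.2.2] at h
  omega

theorem B_class (x : ↥Γ) (hx : x ∈ B) :
    Abelianization.of x = 1 ∨ Abelianization.of x = Abelianization.of (gΓ 4) := by
  have h : ∀ y ∈ Ks 0, ∀ hy : y ∈ Γ, Abelianization.of (⟨y, hy⟩ : ↥Γ) = 1 ∨
      Abelianization.of (⟨y, hy⟩ : ↥Γ) = a 4 := by
    intro y hy
    obtain ⟨h44, hk⟩ := a_vals
    induction hy using Subgroup.closure_induction with
    | mem y hy =>
      obtain ⟨k, ⟨-, hk12⟩, rfl⟩ := hy
      intro hg
      rw [show (⟨g k, hg⟩ : ↥Γ) = gΓ k from Subtype.ext (gΓ_val hk12).symm]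
      exact hk k hk12
    | one => exact fun hy => Or.inl (by rw [show (⟨1, hy⟩ : ↥Γ) = 1 from rfl, map_one])
    | mul u v hu hv ihu ihv =>
      intro hy
      have hu' : u ∈ Γ := by
        have : u ∈ Ks 0 := hu
        rw [Ks0_eq] at this; exact this.2
      have hv' : v ∈ Γ := by
        have : v ∈ Ks 0 := hv
        rw [Ks0_eq] at this; exact this.2
      rw [show (⟨u * v, hy⟩ : ↥Γ) = ⟨u, hu'⟩ * ⟨v, hv'⟩ from rfl, map_mul]
      rcases ihu hu' with e1 | e1 <;> rcases ihv hv' with e2 | e2 <;> rw [e1, e2]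
      · exact Or.inl (one_mul 1)
      · exact Or.inr (one_mul _)
      · exact Or.inr (mul_one _)
      · exact Or.inl h44
    | inv u hu ihu =>
      intro hy
      have hu' : u ∈ Γ := by simpa using inv_mem hy
      rw [show (⟨u⁻¹, hy⟩ : ↥Γ) = (⟨u, hu'⟩ : ↥Γ)⁻¹ from rfl, map_inv]
      rcases ihu hu' with e1 | e1 <;> rw [e1]
      · exact Or.inl inv_one
      · exact Or.inr (inv_eq_of_mul_eq_one_left h44)
  exact h _ (mem_B.1 hx) x.2

theorem sgn_true_ne : sgn true ≠ 1 := by decide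

/-- the derived group -/
theorem main : (commutator ↥Γ).index = 2 ∧ IsSimpleGroup ↥(commutator ↥Γ) ∧
    ¬ IsMulCommutative ↥(commutator ↥Γ) ∧ Nat.card ↥(commutator ↥Γ) * 2 = Nat.card ↥Γ ∧
    ∀ x : ↥B, (x : ↥Γ) ∈ commutator ↥Γ ↔ χB x = 1 := by
  have hb : gΓ 4 ∈ B := mem_B.2 (by rw [gΓ_val (by omega)]; exact g_mem_Ks (Nat.zero_le _) (by omega))
  haveI : Fact (Nat.Prime 2) := ⟨Nat.prime_two⟩
  refine derived_simple twGp.bnPair
    (twGp.irreducible ((TF4.orbits θ0 hsq).irred_of_tab (TF4.wO_val θ0 hsq) (by decide +kernel)))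
    (twGp.normalCore_eq_bot (TF4.exists_full' θ0 hsq hθ))
    (IsPGroup.of_card (n := 12) (by rw [card_B]; norm_num)) χB ?_
    ⟨4387, B_index.trans (by norm_num)⟩ ⟨gΓ 4, hb⟩ ?_ B_class ?_ ?_ ?_
  · rintro s ⟨o, rfl⟩ y hy h
    exact sw_inv o (mem_B.1 hy) (mem_B.1 h)
  · show χ0 (toK ⟨gΓ 4, hb⟩) ≠ 1
    rw [show toK ⟨gΓ 4, hb⟩ = ⟨g 4, g_mem_Ks (Nat.zero_le _) (by omega)⟩ from
      Subtype.ext (gΓ_val (by omega)), χ0_g (by omega), words_eval.2.2.2.2.2.2.2.2.2.2.2.2.2.2.2]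
    exact sgn_true_ne
  · refine ⟨gΓ 4, gΓ 5, fun e => ?_⟩
    have h1 := conj_eq (i := 4) (j := 5) (by omega) (by omega)
    have e' : g 4 * g 5 = g 5 * g 4 := by
      have := congrArg (fun x : ↥Γ => (x : GL chevF4.Idx (ZMod 2))) e
      simpa [gΓ_val] using this
    rw [e', mul_inv_cancel_right, words_eval.1] at h1
    have h9 : g 9 = 1 := by simpa using h1.symm
    exact g_not_mem (i := 9) (by omega) (h9 ▸ one_mem _)
  · intro k hk
    rw [card_facts.2.2] at hk
    have h1 : 4239 ≤ k := by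
      by_contra h
      nlinarith
    have h2 : k ≤ 4239 := by
      by_contra h
      nlinarith
    have : k = 4239 := le_antisymm h2 h1
    subst this
    norm_num at hk
  · intro p hp hk
    rw [card_facts.2.2] at hk
    have : p = 17971200 := by omega
    subst this
    norm_num at hp

theorem fold_spec : ∀ (L l : List ℕ), (∀ x ∈ L, posN x) → (∀ x ∈ l, posN x) →
    (∀ x ∈ List.foldr (ins tT 100) l L, posN x) ∧
      ev (List.foldr (ins tT 100) l L) = ev L * ev l := by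
  intro L l
  induction L with
  | nil => exact fun _ hl => ⟨hl, (one_mul _).symm⟩
  | cons x L ih =>
    intro hL hl
    obtain ⟨h1, h2⟩ := ih (fun y hy => hL y (List.mem_cons_of_mem _ hy)) hl
    obtain ⟨h3, h4⟩ := TF4.C.ins_spec (K := ZMod 2) posN_spec tT_spec 100 x _ (hL x (by simp)) h1
    refine ⟨h3, ?_⟩
    unfold ev at h2 ⊢
    rw [List.foldr_cons, h4, h2, TF4.C.pr_cons, mul_assoc]

theorem Ks_cases {i : ℕ} (hi : i < 12) {y : GL chevF4.Idx (ZMod 2)} (hy : y ∈ Ks i) :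
    y ∈ Ks (i + 1) ∨ (g i)⁻¹ * y ∈ Ks (i + 1) := by
  have hw : ∀ W : List ℕ, (∀ k ∈ W, i + 1 ≤ k ∧ k < 12) → (W.map g).prod ∈ Ks (i + 1) := fun W hW =>
    prod_mem' fun z hz => by
      obtain ⟨k, hk, rfl⟩ := List.mem_map.1 hz
      exact g_mem_Ks (hW k hk).1 (hW k hk).2
  have h2 : g i * g i ∈ Ks (i + 1) := by
    rw [sq_eq hi]
    exact hw _ fun k hk => (chk_sq i hi).2.2 k hk
  obtain ⟨M, -, hM, hiff, -⟩ := exists_hom_insert (1 : ↥(Ks (i + 1)) →* Multiplicative (ZMod 2)) (a := 1)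
    (g_not_mem hi) h2 (by simp) (S := g '' {k | i + 1 ≤ k ∧ k < 12}) rfl (by
      rintro x hx ⟨k, ⟨hk1, hk2⟩, rfl⟩
      refine ⟨?_, rfl⟩
      rw [conj_eq hi hk2]
      exact hw _ fun m hm => ⟨(chk_conj_lt i hi k hk2 m hm).2 (by omega), (chk_conj_lt i hi k hk2 m hm).1⟩)
  refine (hiff y).1 (hM ▸ ?_)
  rw [Ks] at hy
  refine Subgroup.closure_mono ?_ hy
  rintro - ⟨k, ⟨hk1, hk2⟩, rfl⟩
  rcases Nat.eq_or_lt_of_le hk1 with rfl | hk
  · exact Set.mem_insert _ _
  · exact Set.mem_insert_of_mem _ ⟨k, ⟨hk, hk2⟩, rfl⟩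

theorem repr_odd : ∀ d i : ℕ, i + d = 12 → ∀ (y : GL chevF4.Idx (ZMod 2)) (hy : y ∈ Ks i),
    ∃ (u : List ℕ) (b : Bool), (∀ x ∈ u, posN x) ∧ ev u = y ∧
      χ0 ⟨y, Ks_anti (Nat.zero_le i) hy⟩ = sgn b ∧ oddGo (List.range i).reverse u b = true := by
  intro d
  induction d with
  | zero =>
    intro i hi y hy
    have hi' : i = 12 := by omega
    subst hi'
    have h0 : {k : ℕ | 12 ≤ k ∧ k < 12} = ∅ := Set.eq_empty_iff_forall_notMem.2 fun k hk => by
      have := hk.1; have := hk.2; omega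
    have hy1 : y = 1 := by rwa [Ks, h0, Set.image_empty, Subgroup.closure_empty, Subgroup.mem_bot] at hy
    subst hy1
    refine ⟨[], false, by simp, rfl, ?_, chk_odd⟩
    exact (congrArg χ0 (Subtype.ext rfl : (⟨1, one_mem _⟩ : ↥(Ks 0)) = 1)).trans (map_one χ0)
  | succ d ih =>
    intro i hi y hy
    have hi' : i < 12 := by omega
    rcases Ks_cases hi' hy with h | h
    · obtain ⟨u, b, hu, he, hb, hgo⟩ := ih (i + 1) (by omega) y h
      refine ⟨u, b, hu, he, hb, ?_⟩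
      rw [List.range_succ, List.reverse_append, List.reverse_singleton, List.singleton_append,
        oddGo_cons, Bool.and_eq_true] at hgo
      exact hgo.1
    · obtain ⟨u, b, hu, he, hb, hgo⟩ := ih (i + 1) (by omega) _ h
      obtain ⟨h1, h2⟩ := fold_spec (gen i) u (gen_pos hi') hu
      refine ⟨_, xor (kind i) b, h1, ?_, ?_, ?_⟩
      · rw [h2, he, ← g, mul_inv_cancel_left]
      · rw [sgn_xor, ← hb, ← χ0_g hi', ← map_mul]
        exact congrArg χ0 (Subtype.ext (by rw [Subgroup.coe_mul, mul_inv_cancel_left]))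
      · rw [List.range_succ, List.reverse_append, List.reverse_singleton, List.singleton_append,
          oddGo_cons, Bool.and_eq_true] at hgo
        exact hgo.2

theorem χ0_involution {y : GL chevF4.Idx (ZMod 2)} (hy : y ∈ Ks 0) (h2 : y * y = 1) :
    χ0 ⟨y, hy⟩ = 1 := by
  obtain ⟨u, b, hu, he, hb, hgo⟩ := repr_odd 12 0 rfl y hy
  cases b with
  | false => rw [hb]; decide
  | true =>
    exfalso
    rw [List.range_zero, List.reverse_nil, oddGo_nil] at hgo
    obtain ⟨h1, h3⟩ := fold_spec u u hu hu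
    rw [he, h2] at h3
    cases hf : List.foldr (ins tT 100) u u with
    | nil => rw [hf] at hgo; simp at hgo
    | cons m l =>
      rw [hf] at hgo h1 h3
      simp only [Bool.not_true, Bool.false_or] at hgo
      refine TF4.C.pr_ne_one (K := ZMod 2) (posN_spec m (h1 m (by simp))).1
        (posN_spec m (h1 m (by simp))).2 (fun x hx => ?_) h3
      refine ⟨?_, posN_spec x (h1 x (List.mem_cons_of_mem _ hx))⟩
      have := List.all_eq_true.1 hgo x hx
      rwa [Nat.blt_eq] at this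

/-- all involutions lie in the derived group -/
theorem involution_mem (z : ↥Γ) (hz : orderOf z = 2) : z ∈ commutator ↥Γ := by
  haveI : Fact (Nat.Prime 2) := ⟨Nat.prime_two⟩
  have hp : IsPGroup 2 ↥(Subgroup.zpowers z) :=
    IsPGroup.of_card (n := 1) (by rw [Nat.card_zpowers, hz, pow_one])
  obtain ⟨q, hq⟩ := hp.nonempty_fixed_point_of_prime_not_dvd_card (↥Γ ⧸ B) (by
    rw [← Subgroup.index_eq_card, B_index]; decide)
  obtain ⟨w, rfl⟩ := QuotientGroup.mk_surjective q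
  have h1 := hq ⟨z, Subgroup.mem_zpowers z⟩
  have hw : w⁻¹ * z * w ∈ B := by
    have h2 : (((z * w : ↥Γ)) : ↥Γ ⧸ B) = (w : ↥Γ ⧸ B) := h1
    have := QuotientGroup.eq.1 h2.symm
    rwa [← mul_assoc] at this
  have hsq : (w⁻¹ * z * w) * (w⁻¹ * z * w) = 1 := by
    have hzz : z * z = 1 := (pow_two z).symm.trans (orderOf_dvd_iff_pow_eq_one.1 (dvd_of_eq hz))
    calc (w⁻¹ * z * w) * (w⁻¹ * z * w) = w⁻¹ * (z * z) * w := by group
      _ = 1 := by rw [hzz, mul_one, inv_mul_cancel]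
  have hχ : χB ⟨_, hw⟩ = 1 := χ0_involution (mem_B.1 hw) (congrArg (fun x : ↥Γ => (x : GL chevF4.Idx (ZMod 2))) hsq)
  have h3 := (main.2.2.2.2 ⟨_, hw⟩).2 hχ
  have h4 := (inferInstance : (commutator ↥Γ).Normal).conj_mem _ h3 w
  simpa [mul_assoc] using h4

end CfsgLib.Lie.Chev.Tits
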