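import Cfsg.Agent.Lib.Lie.Chev.Tits.Ins
import Cfsg.Agent.Lib.Lie.Chev.Tw.F4

/-!
# Tables for the unipotent group of the fixed group of type F4 over two elements
-/

set_option autoImplicit false
set_option maxRecDepth 100000

namespace CfsgLib.Lie.Chev.Tits

open Cfsg.Lie

/-- products of two letters -/
def gT : Tree (Tree (List ℕ)) :=
  (.node 12 (.node 6 (.node 3 (.node 1 (.leaf (.node 12 (.node 6 (.node 3 (.node 1 (.leaf []) (.node 2 (.leaf [26]) (.leaf []))) (.node 4 (.leaf []) (.node 5 (.leaf [29, 32]) (.leaf [])))) (.node 9 (.node 7 (.leaf [31]) (.node 8 (.leaf []) (.leaf []))) (.node 10 (.leaf []) (.node 11 (.leaf []) (.leaf [36, 43]))))) (.node 18 (.node 15 (.node 13 (.leaf []) (.node 14 (.leaf [38, 45]) (.leaf []))) (.node 16 (.leaf []) (.node 17 (.leaf []) (.leaf [42])))) (.node 21 (.node 19 (.leaf []) (.node 20 (.leaf []) (.leaf []))) (.node 22 (.leaf []) (.node 23 (.leaf [47]) (.leaf []))))))) (.node 2 (.leaf (.node 12 (.node 6 (.node 3 (.node 1 (.leaf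 []) (.node 2 (.leaf []) (.leaf []))) (.node 4 (.leaf [28, 30]) (.node 5 (.leaf []) (.leaf [])))) (.node 9 (.node 7 (.leaf []) (.node 8 (.leaf [32]) (.leaf []))) (.node 10 (.leaf []) (.node 11 (.leaf [35, 41]) (.leaf []))))) (.node 18 (.node 15 (.node 13 (.leaf []) (.node 14 (.leaf []) (.leaf [39, 47]))) (.node 16 (.leaf []) (.node 17 (.leaf []) (.leaf [])))) (.node 21 (.node 19 (.leaf [43]) (.node 20 (.leaf []) (.leaf []))) (.node 22 (.leaf [46]) (.node 23 (.leaf []) (.leaf []))))))) (.leaf (.node 12 (.node 6 (.node 3 (.node 1 (.leaf []) (.node 2 (.leaf []) (.leaf []))) (.node 4 (.leaf [29, 31]) (.node 5 (.leaf []) (.leaf [])))) (.node 9 (.node 7 (.leaf [32]) (.node 8 (.leaf []) (.leaf []))) (.node 10 (.leaf []) (.node 11 (.leaf [36, 42]) (.leaf []))))) (.node 18 (.node 15 (.node 13 (.leaf []) (.node 14 (.leaf [39, 46]) (.leaf []))) (.node 16 (.leaf []) (.node 17 (.leaf []) (.leaf [43])))) (.node 21 (.node 19 (.leaf []) (.node 20 (.leaf []) (.leaf []))) (.node 22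 (.leaf [47]) (.node 23 (.leaf []) (.leaf []))))))))) (.node 4 (.leaf (.node 12 (.node 6 (.node 3 (.node 1 (.leaf []) (.node 2 (.leaf []) (.leaf []))) (.node 4 (.leaf []) (.node 5 (.leaf []) (.leaf [])))) (.node 9 (.node 7 (.leaf []) (.node 8 (.leaf []) (.leaf []))) (.node 10 (.leaf [34]) (.node 11 (.leaf []) (.leaf [37]))))) (.node 18 (.node 15 (.node 13 (.leaf [38]) (.node 14 (.leaf []) (.leaf []))) (.node 16 (.leaf [40]) (.node 17 (.leaf []) (.leaf [])))) (.node 21 (.node 19 (.leaf []) (.node 20 (.leaf [44, 45]) (.leaf []))) (.node 22 (.leaf []) (.node 23 (.leaf []) (.leaf []))))))) (.node 5 (.leaf (.node 12 (.node 6 (.node 3 (.node 1 (.leaf []) (.node 2 (.leaf []) (.leaf []))) (.node 4 (.leaf []) (.node 5 (.leaf []) (.leaf [])))) (.node 9 (.node 7 (.leaf []) (.node 8 (.leaf []) (.leaf []))) (.node 10 (.leaf [35]) (.node 11 (.leaf [37]) (.leaf []))))) (.node 18 (.node 15 (.node 13 (.leaf [39]) (.node 14 (.leaf []) (.leaf [40]))) (.node 16 (.leaf []) (.node 17 (.leaf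 []) (.leaf [])))) (.node 21 (.node 19 (.leaf [44, 46]) (.node 20 (.leaf []) (.leaf []))) (.node 22 (.leaf []) (.node 23 (.leaf []) (.leaf []))))))) (.leaf (.node 12 (.node 6 (.node 3 (.node 1 (.leaf []) (.node 2 (.leaf []) (.leaf []))) (.node 4 (.leaf []) (.node 5 (.leaf []) (.leaf [])))) (.node 9 (.node 7 (.leaf []) (.node 8 (.leaf []) (.leaf []))) (.node 10 (.leaf [36]) (.node 11 (.leaf [38]) (.leaf [39]))))) (.node 18 (.node 15 (.node 13 (.leaf []) (.node 14 (.leaf [40]) (.leaf []))) (.node 16 (.leaf []) (.node 17 (.leaf []) (.leaf [44, 47])))) (.node 21 (.node 19 (.leaf []) (.node 20 (.leaf []) (.leaf []))) (.node 22 (.leaf []) (.node 23 (.leaf []) (.leaf [])))))))))) (.node 9 (.node 7 (.leaf (.node 12 (.node 6 (.node 3 (.node 1 (.leaf []) (.node 2 (.leaf []) (.leaf []))) (.node 4 (.leaf []) (.node 5 (.leaf []) (.leaf [])))) (.node 9 (.node 7 (.leaf []) (.node 8 (.leaf []) (.leaf []))) (.node 10 (.leaf [37, 41]) (.node 11 (.leaf []) (.leaf []))))) (.node 18 (.node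 15 (.node 13 (.leaf [40, 47]) (.node 14 (.leaf []) (.leaf []))) (.node 16 (.leaf []) (.node 17 (.leaf []) (.leaf [])))) (.node 21 (.node 19 (.leaf [45]) (.node 20 (.leaf [46]) (.leaf []))) (.node 22 (.leaf []) (.node 23 (.leaf []) (.leaf []))))))) (.node 8 (.leaf (.node 12 (.node 6 (.node 3 (.node 1 (.leaf []) (.node 2 (.leaf []) (.leaf []))) (.node 4 (.leaf []) (.node 5 (.leaf []) (.leaf [])))) (.node 9 (.node 7 (.leaf []) (.node 8 (.leaf []) (.leaf []))) (.node 10 (.leaf [38, 42]) (.node 11 (.leaf []) (.leaf [40, 46]))))) (.node 18 (.node 15 (.node 13 (.leaf []) (.node 14 (.leaf []) (.leaf []))) (.node 16 (.leaf []) (.node 17 (.leaf []) (.leaf [45])))) (.node 21 (.node 19 (.leaf []) (.node 20 (.leaf [47]) (.leaf []))) (.node 22 (.leaf []) (.node 23 (.leaf []) (.leaf []))))))) (.leaf (.node 12 (.node 6 (.node 3 (.node 1 (.leaf []) (.node 2 (.leaf []) (.leaf []))) (.node 4 (.leaf []) (.node 5 (.leaf []) (.leaf [])))) (.node 9 (.node 7 (.leaf []) (.node 8 (.leaf [])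 (.leaf []))) (.node 10 (.leaf [39, 43]) (.node 11 (.leaf [40, 45]) (.leaf []))))) (.node 18 (.node 15 (.node 13 (.leaf []) (.node 14 (.leaf []) (.leaf []))) (.node 16 (.leaf []) (.node 17 (.leaf []) (.leaf [46])))) (.node 21 (.node 19 (.leaf [47]) (.node 20 (.leaf []) (.leaf []))) (.node 22 (.leaf []) (.node 23 (.leaf []) (.leaf []))))))))) (.node 10 (.leaf (.node 12 (.node 6 (.node 3 (.node 1 (.leaf []) (.node 2 (.leaf []) (.leaf []))) (.node 4 (.leaf []) (.node 5 (.leaf []) (.leaf [])))) (.node 9 (.node 7 (.leaf []) (.node 8 (.leaf []) (.leaf []))) (.node 10 (.leaf []) (.node 11 (.leaf []) (.leaf []))))) (.node 18 (.node 15 (.node 13 (.leaf []) (.node 14 (.leaf []) (.leaf []))) (.node 16 (.leaf []) (.node 17 (.leaf [44]) (.leaf [])))) (.node 21 (.node 19 (.leaf []) (.node 20 (.leaf []) (.leaf []))) (.node 22 (.leaf []) (.node 23 (.leaf []) (.leaf []))))))) (.node 11 (.leaf (.node 12 (.node 6 (.node 3 (.node 1 (.leaf []) (.node 2 (.leaf []) (.leaf []))) (.node 4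 (.leaf []) (.node 5 (.leaf []) (.leaf [])))) (.node 9 (.node 7 (.leaf []) (.node 8 (.leaf []) (.leaf []))) (.node 10 (.leaf []) (.node 11 (.leaf []) (.leaf []))))) (.node 18 (.node 15 (.node 13 (.leaf []) (.node 14 (.leaf []) (.leaf []))) (.node 16 (.leaf [44]) (.node 17 (.leaf []) (.leaf [])))) (.node 21 (.node 19 (.leaf []) (.node 20 (.leaf []) (.leaf []))) (.node 22 (.leaf []) (.node 23 (.leaf []) (.leaf []))))))) (.leaf (.node 12 (.node 6 (.node 3 (.node 1 (.leaf []) (.node 2 (.leaf []) (.leaf []))) (.node 4 (.leaf []) (.node 5 (.leaf []) (.leaf [])))) (.node 9 (.node 7 (.leaf []) (.node 8 (.leaf []) (.leaf []))) (.node 10 (.leaf []) (.node 11 (.leaf []) (.leaf []))))) (.node 18 (.node 15 (.node 13 (.leaf []) (.node 14 (.leaf []) (.leaf [44]))) (.node 16 (.leaf []) (.node 17 (.leaf []) (.leaf [])))) (.node 21 (.node 19 (.leaf []) (.node 20 (.leaf []) (.leaf []))) (.node 22 (.leaf []) (.node 23 (.leaf []) (.leaf []))))))))))) (.node 18 (.node 15 (.node 13 (.leaf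 (.node 12 (.node 6 (.node 3 (.node 1 (.leaf []) (.node 2 (.leaf []) (.leaf []))) (.node 4 (.leaf []) (.node 5 (.leaf []) (.leaf [])))) (.node 9 (.node 7 (.leaf []) (.node 8 (.leaf []) (.leaf []))) (.node 10 (.leaf []) (.node 11 (.leaf []) (.leaf []))))) (.node 18 (.node 15 (.node 13 (.leaf []) (.node 14 (.leaf [44]) (.leaf []))) (.node 16 (.leaf []) (.node 17 (.leaf []) (.leaf [])))) (.node 21 (.node 19 (.leaf []) (.node 20 (.leaf []) (.leaf []))) (.node 22 (.leaf []) (.node 23 (.leaf []) (.leaf []))))))) (.node 14 (.leaf (.node 12 (.node 6 (.node 3 (.node 1 (.leaf []) (.node 2 (.leaf []) (.leaf []))) (.node 4 (.leaf []) (.node 5 (.leaf []) (.leaf [])))) (.node 9 (.node 7 (.leaf []) (.node 8 (.leaf []) (.leaf []))) (.node 10 (.leaf []) (.node 11 (.leaf []) (.leaf []))))) (.node 18 (.node 15 (.node 13 (.leaf []) (.node 14 (.leaf []) (.leaf []))) (.node 16 (.leaf []) (.node 17 (.leaf []) (.leaf [])))) (.node 21 (.node 19 (.leaf []) (.node 20 (.leaf []) (.leaf [])))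 (.node 22 (.leaf []) (.node 23 (.leaf []) (.leaf []))))))) (.leaf (.node 12 (.node 6 (.node 3 (.node 1 (.leaf []) (.node 2 (.leaf []) (.leaf []))) (.node 4 (.leaf []) (.node 5 (.leaf []) (.leaf [])))) (.node 9 (.node 7 (.leaf []) (.node 8 (.leaf []) (.leaf []))) (.node 10 (.leaf []) (.node 11 (.leaf []) (.leaf []))))) (.node 18 (.node 15 (.node 13 (.leaf []) (.node 14 (.leaf []) (.leaf []))) (.node 16 (.leaf []) (.node 17 (.leaf []) (.leaf [])))) (.node 21 (.node 19 (.leaf []) (.node 20 (.leaf []) (.leaf []))) (.node 22 (.leaf []) (.node 23 (.leaf []) (.leaf []))))))))) (.node 16 (.leaf (.node 12 (.node 6 (.node 3 (.node 1 (.leaf []) (.node 2 (.leaf []) (.leaf []))) (.node 4 (.leaf []) (.node 5 (.leaf []) (.leaf [])))) (.node 9 (.node 7 (.leaf []) (.node 8 (.leaf []) (.leaf []))) (.node 10 (.leaf []) (.node 11 (.leaf []) (.leaf []))))) (.node 18 (.node 15 (.node 13 (.leaf []) (.node 14 (.leaf []) (.leaf []))) (.node 16 (.leaf []) (.node 17 (.leaf []) (.leaf []))))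 (.node 21 (.node 19 (.leaf []) (.node 20 (.leaf []) (.leaf []))) (.node 22 (.leaf []) (.node 23 (.leaf []) (.leaf []))))))) (.node 17 (.leaf (.node 12 (.node 6 (.node 3 (.node 1 (.leaf []) (.node 2 (.leaf []) (.leaf []))) (.node 4 (.leaf []) (.node 5 (.leaf []) (.leaf [])))) (.node 9 (.node 7 (.leaf []) (.node 8 (.leaf []) (.leaf []))) (.node 10 (.leaf []) (.node 11 (.leaf []) (.leaf []))))) (.node 18 (.node 15 (.node 13 (.leaf []) (.node 14 (.leaf []) (.leaf []))) (.node 16 (.leaf []) (.node 17 (.leaf []) (.leaf [])))) (.node 21 (.node 19 (.leaf []) (.node 20 (.leaf []) (.leaf []))) (.node 22 (.leaf []) (.node 23 (.leaf []) (.leaf []))))))) (.leaf (.node 12 (.node 6 (.node 3 (.node 1 (.leaf []) (.node 2 (.leaf []) (.leaf []))) (.node 4 (.leaf []) (.node 5 (.leaf []) (.leaf [])))) (.node 9 (.node 7 (.leaf []) (.node 8 (.leaf []) (.leaf []))) (.node 10 (.leaf []) (.node 11 (.leaf []) (.leaf []))))) (.node 18 (.node 15 (.node 13 (.leaf []) (.node 14 (.leaf []) (.leaf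 []))) (.node 16 (.leaf []) (.node 17 (.leaf []) (.leaf [])))) (.node 21 (.node 19 (.leaf []) (.node 20 (.leaf []) (.leaf []))) (.node 22 (.leaf []) (.node 23 (.leaf []) (.leaf [])))))))))) (.node 21 (.node 19 (.leaf (.node 12 (.node 6 (.node 3 (.node 1 (.leaf []) (.node 2 (.leaf []) (.leaf []))) (.node 4 (.leaf []) (.node 5 (.leaf []) (.leaf [])))) (.node 9 (.node 7 (.leaf []) (.node 8 (.leaf []) (.leaf []))) (.node 10 (.leaf []) (.node 11 (.leaf []) (.leaf []))))) (.node 18 (.node 15 (.node 13 (.leaf []) (.node 14 (.leaf []) (.leaf []))) (.node 16 (.leaf []) (.node 17 (.leaf []) (.leaf [])))) (.node 21 (.node 19 (.leaf []) (.node 20 (.leaf []) (.leaf []))) (.node 22 (.leaf []) (.node 23 (.leaf []) (.leaf []))))))) (.node 20 (.leaf (.node 12 (.node 6 (.node 3 (.node 1 (.leaf []) (.node 2 (.leaf []) (.leaf []))) (.node 4 (.leaf []) (.node 5 (.leaf []) (.leaf [])))) (.node 9 (.node 7 (.leaf []) (.node 8 (.leaf []) (.leaf []))) (.node 10 (.leaf []) (.node 11 (.leaf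 []) (.leaf []))))) (.node 18 (.node 15 (.node 13 (.leaf []) (.node 14 (.leaf []) (.leaf []))) (.node 16 (.leaf []) (.node 17 (.leaf []) (.leaf [])))) (.node 21 (.node 19 (.leaf []) (.node 20 (.leaf []) (.leaf []))) (.node 22 (.leaf []) (.node 23 (.leaf []) (.leaf []))))))) (.leaf (.node 12 (.node 6 (.node 3 (.node 1 (.leaf []) (.node 2 (.leaf []) (.leaf []))) (.node 4 (.leaf []) (.node 5 (.leaf []) (.leaf [])))) (.node 9 (.node 7 (.leaf []) (.node 8 (.leaf []) (.leaf []))) (.node 10 (.leaf []) (.node 11 (.leaf []) (.leaf []))))) (.node 18 (.node 15 (.node 13 (.leaf []) (.node 14 (.leaf []) (.leaf []))) (.node 16 (.leaf []) (.node 17 (.leaf []) (.leaf [])))) (.node 21 (.node 19 (.leaf []) (.node 20 (.leaf []) (.leaf []))) (.node 22 (.leaf []) (.node 23 (.leaf []) (.leaf []))))))))) (.node 22 (.leaf (.node 12 (.node 6 (.node 3 (.node 1 (.leaf []) (.node 2 (.leaf []) (.leaf []))) (.node 4 (.leaf []) (.node 5 (.leaf []) (.leaf [])))) (.node 9 (.node 7 (.leaf []) (.node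 8 (.leaf []) (.leaf []))) (.node 10 (.leaf []) (.node 11 (.leaf []) (.leaf []))))) (.node 18 (.node 15 (.node 13 (.leaf []) (.node 14 (.leaf []) (.leaf []))) (.node 16 (.leaf []) (.node 17 (.leaf []) (.leaf [])))) (.node 21 (.node 19 (.leaf []) (.node 20 (.leaf []) (.leaf []))) (.node 22 (.leaf []) (.node 23 (.leaf []) (.leaf []))))))) (.node 23 (.leaf (.node 12 (.node 6 (.node 3 (.node 1 (.leaf []) (.node 2 (.leaf []) (.leaf []))) (.node 4 (.leaf []) (.node 5 (.leaf []) (.leaf [])))) (.node 9 (.node 7 (.leaf []) (.node 8 (.leaf []) (.leaf []))) (.node 10 (.leaf []) (.node 11 (.leaf []) (.leaf []))))) (.node 18 (.node 15 (.node 13 (.leaf []) (.node 14 (.leaf []) (.leaf []))) (.node 16 (.leaf []) (.node 17 (.leaf []) (.leaf [])))) (.node 21 (.node 19 (.leaf []) (.node 20 (.leaf []) (.leaf []))) (.node 22 (.leaf []) (.node 23 (.leaf []) (.leaf []))))))) (.leaf (.node 12 (.node 6 (.node 3 (.node 1 (.leaf []) (.node 2 (.leaf []) (.leaf []))) (.node 4 (.leaf []) (.node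 5 (.leaf []) (.leaf [])))) (.node 9 (.node 7 (.leaf []) (.node 8 (.leaf []) (.leaf []))) (.node 10 (.leaf []) (.node 11 (.leaf []) (.leaf []))))) (.node 18 (.node 15 (.node 13 (.leaf []) (.node 14 (.leaf []) (.leaf []))) (.node 16 (.leaf []) (.node 17 (.leaf []) (.leaf [])))) (.node 21 (.node 19 (.leaf []) (.node 20 (.leaf []) (.leaf []))) (.node 22 (.leaf []) (.node 23 (.leaf []) (.leaf []))))))))))))

/-- the twelve generators -/
def gens : List (List ℕ) :=
  [[24, 33], [25, 27, 30], [26, 34, 42], [28, 30], [29, 41, 44], [31, 35, 46], [32, 37], [36, 42], [38, 43], [39, 45], [40, 46], [44, 47]]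

/-- the values of the character -/
def kinds : List Bool :=
  [false, true, true, false, true, true, false, false, false, false, false, false]

/-- conjugates, as words in the generators -/
def conjW : List (List (List ℕ)) :=
  [[[0], [1, 2, 4, 6, 10, 11], [2], [3, 4, 5, 6, 7, 8], [4, 7], [5, 7, 8, 11], [6, 8, 9], [7], [8], [9], [10, 11], [11]],
   [[0, 2, 5, 6, 8, 9, 10], [1], [2, 4, 5, 8], [3], [4], [5, 6], [6], [7, 8, 9, 10], [8, 9, 11], [9, 10], [10], [11]],
   [[0], [1, 4, 5, 6, 9], [2], [3, 6, 9, 11], [4, 8], [5], [6, 9, 10], [7], [8], [9, 11], [10], [11]],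
   [[0, 4, 5, 6, 7, 8, 9, 11], [1], [2, 6, 10, 11], [3], [4], [5], [6], [7, 9, 10, 11], [8, 10], [9], [10], [11]],
   [[0, 7], [1], [2, 8], [3], [4], [5, 9], [6, 10], [7], [8], [9], [10], [11]],
   [[0, 7, 8], [1, 6], [2], [3], [4, 9], [5], [6], [7], [8, 11], [9], [10], [11]],
   [[0, 8, 9], [1], [2, 9, 10, 11], [3], [4, 10], [5], [6], [7, 11], [8], [9], [10], [11]],
   [[0], [1, 8, 10, 11], [2], [3, 9, 10, 11], [4], [5], [6, 11], [7], [8], [9], [10], [11]],
   [[0], [1, 9, 10, 11], [2], [3, 10], [4], [5, 11], [6], [7], [8], [9], [10], [11]],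
   [[0], [1, 10], [2, 11], [3], [4], [5], [6], [7], [8], [9], [10], [11]],
   [[0, 11], [1], [2], [3], [4], [5], [6], [7], [8], [9], [10], [11]],
   [[0], [1], [2], [3], [4], [5], [6], [7], [8], [9], [10], [11]]]

/-- squares -/
def sqW : List (List ℕ) :=
  [[], [3], [7], [], [11], [10], [], [], [], [], [], []]
/-- the table as a function -/
noncomputable def tT (m r : ℕ) : List ℕ := (gT.get (m - 24)).get (r - 24)

/-- the generator -/
noncomputable def gen (i : ℕ) : List ℕ := gens.getD i []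

/-- the value of the character -/
noncomputable def kind (i : ℕ) : Bool := kinds.getD i false

/-- a word in the generators, flattened -/
noncomputable def flat (W : List ℕ) : List ℕ := (W.map gen).flatten

/-- the parity of a word -/
noncomputable def par (W : List ℕ) : Bool := W.foldr (fun i b => xor (kind i) b) false

/-- conjugates -/
noncomputable def cjW (i j : ℕ) : List ℕ := (conjW.getD i []).getD j []

/-- the image of a word under a table of roots -/
noncomputable def mapTab (o : ℕ) (L : List ℕ) : List ℕ :=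
  L.map fun r => digit (orbGraphF4.tab.get o) r

theorem chk_T : ∀ m < 48, ∀ r < 48, m < 24 ∨ r ≤ m ∨
    (tT m r = oddTerms chevF4 m r ∧ (tT m r).all (fun x => decide (24 ≤ x ∧ x < 48)) = true) := by
  decide +kernel

theorem chk_gens : gens.length = 12 ∧ ∀ i < 12, (∀ x ∈ gen i, 24 ≤ x ∧ x < 48) ∧
    (∀ x ∈ (gen i).tail, (gen i).headI < x) ∧ gen i ≠ [] ∧
    ∀ j < 12, i < j → (gen i).headI < (gen j).headI := by
  decide +kernel

theorem chk_conj : ∀ i < 12, ∀ j < 12,
    collect tT (gen i ++ gen j) = collect tT (flat (cjW i j) ++ gen i) ∧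
    par (cjW i j) = kind j := by
  decide +kernel

theorem chk_conj_lt : ∀ i < 12, ∀ j < 12, ∀ k ∈ cjW i j, k < 12 ∧ (i < j → i < k) := by
  decide +kernel

theorem chk_sq : ∀ i < 12, collect tT (gen i ++ gen i) = collect tT (flat (sqW.getD i [])) ∧
    par (sqW.getD i []) = false ∧ ∀ k ∈ sqW.getD i [], i < k ∧ k < 12 := by
  decide +kernel

theorem chk_fix : ∀ i < 12,
    collect tT ((gen i).map fun r => graphF4.p.get r) = collect tT (gen i) := by
  decide +kernel

/-- images of the generators under the two distinguished involutions -/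
def swapW : List (List (List ℕ)) :=
  [[[], [2], [1], [7], [5], [4], [8], [3], [6], [9], [11], [10]],
   [[6], [], [5], [], [4], [2], [0], [10], [9], [8], [7], [11]]]

/-- the generators of the root subgroup of the orbit -/
def inX (o j : ℕ) : Bool := bif Nat.beq o 0 then Nat.beq j 0 else (Nat.beq j 1 || Nat.beq j 3)

/-- images -/
noncomputable def swW (o j : ℕ) : List ℕ := (swapW.getD o []).getD j []

theorem chk_swap : ∀ o < 2, ∀ j < 12,
    (inX o j = true ∧ (mapTab o (gen j)).all (fun x => decide (x < 24)) = true) ∨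
    (inX o j = false ∧ (mapTab o (gen j)).all (fun x => decide (24 ≤ x ∧ x < 48)) = true ∧
      collect tT (mapTab o (gen j)) = collect tT (flat (swW o j)) ∧
      par (swW o j) = kind j ∧ (swW o j).all (fun k => decide (k < 12)) = true) := by
  decide +kernel

theorem chk_inX : ∀ o < 2, ∀ i < 12, ∀ j < 12, inX o j = true ∨
    (cjW i j).all (fun k => !(inX o k)) = true := by
  decide +kernel

/-- every word of odd parity in the list has a non-trivial square -/
noncomputable def oddGo : List ℕ → List ℕ → Bool → Bool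
  | [], u, b => !b || (match List.foldr (ins tT 100) u u with
      | [] => false
      | m :: l => l.all fun x => Nat.blt m x)
  | i :: L, u, b => oddGo L u b && oddGo L (List.foldr (ins tT 100) u (gen i)) (xor (kind i) b)

theorem chk_odd : oddGo (List.range 12).reverse [] false = true := by
  decide +kernel

end CfsgLib.Lie.Chev.Tits
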