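import Mathlib

/-!
# Extension of a character by an element whose square lies in the subgroup
-/

set_option autoImplicit false

namespace CfsgLib.Lie.Chev.Tits

variable {G A : Type*} [Group G] [CommGroup A]

/-- extension of a character -/
theorem exists_hom_insert {N : Subgroup G} (f : ↥N →* A) {g : G} {a : A} (hg : g ∉ N)
    (h2 : g * g ∈ N) (hf2 : f ⟨g * g, h2⟩ = a * a) {S : Set G} (hS : Subgroup.closure S = N)
    (hc : ∀ x (hx : x ∈ N), x ∈ S → ∃ h : g * x * g⁻¹ ∈ N, f ⟨g * x * g⁻¹, h⟩ = f ⟨x, hx⟩) :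
    ∃ (M : Subgroup G) (f' : ↥M →* A), Subgroup.closure (insert g S) = M ∧
      (∀ x, x ∈ M ↔ x ∈ N ∨ g⁻¹ * x ∈ N) ∧
      (∀ x (hx : x ∈ N) (hx' : x ∈ M), f' ⟨x, hx'⟩ = f ⟨x, hx⟩) ∧
      (∀ (h : g ∈ M), f' ⟨g, h⟩ = a) ∧ Nat.card ↥M = 2 * Nat.card ↥N := by
  classical
  have hconj : ∀ x (hx : x ∈ N), ∃ h : g * x * g⁻¹ ∈ N, f ⟨g * x * g⁻¹, h⟩ = f ⟨x, hx⟩ := by
    intro x hx
    have hx' : x ∈ Subgroup.closure S := hS.symm ▸ hx
    revert hx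
    induction hx' using Subgroup.closure_induction with
    | mem y hy => intro hx; exact hc y hx hy
    | one =>
      intro hx
      exact ⟨by simp, congrArg f (Subtype.ext (by simp))⟩
    | mul y z hy hz ihy ihz =>
      intro hx
      obtain ⟨h1, e1⟩ := ihy (hS ▸ hy)
      obtain ⟨h3, e3⟩ := ihz (hS ▸ hz)
      have e : g * (y * z) * g⁻¹ = (g * y * g⁻¹) * (g * z * g⁻¹) := by group
      refine ⟨e ▸ mul_mem h1 h3, ?_⟩
      calc f ⟨g * (y * z) * g⁻¹, _⟩ = f (⟨_, h1⟩ * ⟨_, h3⟩) := congrArg f (Subtype.ext e)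
        _ = f (⟨y, hS ▸ hy⟩ * ⟨z, hS ▸ hz⟩) := by rw [map_mul, map_mul, e1, e3]
        _ = _ := rfl
    | inv y hy ihy =>
      intro hx
      obtain ⟨h1, e1⟩ := ihy (hS ▸ hy)
      have e : g * y⁻¹ * g⁻¹ = (g * y * g⁻¹)⁻¹ := by group
      refine ⟨e ▸ inv_mem h1, ?_⟩
      calc f ⟨g * y⁻¹ * g⁻¹, _⟩ = f (⟨_, h1⟩⁻¹) := congrArg f (Subtype.ext e)
        _ = f (⟨y, hS ▸ hy⟩⁻¹) := by rw [map_inv, map_inv, e1]
        _ = _ := rfl
  have hconj' : ∀ x (hx : x ∈ N), ∃ h : g⁻¹ * x * g ∈ N, f ⟨g⁻¹ * x * g, h⟩ = f ⟨x, hx⟩ := by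
    intro x hx
    obtain ⟨h1, e1⟩ := hconj x hx
    have e : g⁻¹ * x * g = (g * g)⁻¹ * (g * x * g⁻¹) * (g * g) := by group
    refine ⟨e ▸ mul_mem (mul_mem (inv_mem h2) h1) h2, ?_⟩
    calc f ⟨g⁻¹ * x * g, _⟩ = f (⟨_, h2⟩⁻¹ * ⟨_, h1⟩ * ⟨_, h2⟩) := congrArg f (Subtype.ext e)
      _ = _ := by rw [map_mul, map_mul, map_inv, e1, mul_comm (f ⟨g * g, h2⟩)⁻¹, inv_mul_cancel_right]
  have hone : g⁻¹ ∉ N := fun h => hg (by simpa using inv_mem h)
  have nn : ∀ x, x ∈ N → g⁻¹ * x ∉ N := fun x hx h => hone (by simpa using mul_mem h (inv_mem hx))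
  have mmul : ∀ x y, (x ∈ N ∨ g⁻¹ * x ∈ N) → (y ∈ N ∨ g⁻¹ * y ∈ N) →
      (x * y ∈ N ∨ g⁻¹ * (x * y) ∈ N) := by
    rintro x y (hx | hx) (hy | hy)
    · exact Or.inl (mul_mem hx hy)
    · refine Or.inr ?_
      rw [show g⁻¹ * (x * y) = (g⁻¹ * x * g) * (g⁻¹ * y) by group]
      exact mul_mem (hconj' x hx).1 hy
    · exact Or.inr (by rw [← mul_assoc]; exact mul_mem hx hy)
    · refine Or.inl ?_
      rw [show x * y = (g * g) * (g⁻¹ * (g⁻¹ * x) * g) * (g⁻¹ * y) by group]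
      exact mul_mem (mul_mem h2 (hconj' _ hx).1) hy
  let M : Subgroup G :=
    { carrier := {x | x ∈ N ∨ g⁻¹ * x ∈ N}
      one_mem' := Or.inl (one_mem N)
      mul_mem' := fun {x y} => mmul x y
      inv_mem' := by
        rintro x (hx | hx)
        · exact Or.inl (inv_mem hx)
        · refine Or.inr ?_
          rw [show g⁻¹ * x⁻¹ = g⁻¹ * (g⁻¹ * x)⁻¹ * g * (g * g)⁻¹ by group]
          exact mul_mem (hconj' _ (inv_mem hx)).1 (inv_mem h2) }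
  let F : ↥M → A := fun x => if h : (x : G) ∈ N then f ⟨x, h⟩ else a * f ⟨g⁻¹ * x, x.2.resolve_left h⟩
  have hF1 : ∀ (x : ↥M) (h : (x : G) ∈ N), F x = f ⟨x, h⟩ := fun x h => dif_pos h
  have hF2 : ∀ (x : ↥M) (h : g⁻¹ * (x : G) ∈ N), F x = a * f ⟨g⁻¹ * x, h⟩ := fun x h =>
    dif_neg fun h' => nn _ h' h
  have hmul : ∀ x y : ↥M, F (x * y) = F x * F y := by
    intro x y
    rcases x.2 with hx | hx <;> rcases y.2 with hy | hy
    · rw [hF1 x hx, hF1 y hy, hF1 (x * y) (mul_mem hx hy), ← map_mul]; rfl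
    · obtain ⟨h1, e1⟩ := hconj' x hx
      have e : g⁻¹ * ((x * y : ↥M) : G) = (g⁻¹ * x * g) * (g⁻¹ * y) := by
        rw [Subgroup.coe_mul]; group
      rw [hF1 x hx, hF2 y hy, hF2 (x * y) (e ▸ mul_mem h1 hy), ← e1, mul_left_comm, ← map_mul]
      exact congrArg (a * f ·) (Subtype.ext e)
    · have e : g⁻¹ * ((x * y : ↥M) : G) = (g⁻¹ * x) * y := by rw [Subgroup.coe_mul]; group
      have hm : g⁻¹ * ((x * y : ↥M) : G) ∈ N := e ▸ mul_mem hx hy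
      have e2 : (⟨_, hm⟩ : ↥N) = ⟨_, hx⟩ * ⟨_, hy⟩ := Subtype.ext e
      calc F (x * y) = a * f ⟨_, hm⟩ := hF2 _ hm
        _ = F x * F y := by rw [hF2 x hx, hF1 y hy, e2, map_mul, mul_assoc]
    · obtain ⟨h1, e1⟩ := hconj' _ hx
      have e : ((x * y : ↥M) : G) = (g * g) * (g⁻¹ * (g⁻¹ * x) * g) * (g⁻¹ * y) := by
        rw [Subgroup.coe_mul]; group
      rw [hF2 x hx, hF2 y hy, hF1 (x * y) (e ▸ mul_mem (mul_mem h2 h1) hy), ← e1]
      calc f ⟨((x * y : ↥M) : G), _⟩ = f (⟨_, h2⟩ * ⟨_, h1⟩ * ⟨_, hy⟩) := congrArg f (Subtype.ext e)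
        _ = _ := by rw [map_mul, map_mul, hf2, mul_mul_mul_comm, mul_assoc]
  refine ⟨M, MonoidHom.mk' F hmul, le_antisymm ((Subgroup.closure_le _).2 ?_) ?_, fun x => Iff.rfl,
    fun x hx hx' => hF1 ⟨x, hx'⟩ hx, fun h => ?_, ?_⟩
  · rintro x (rfl | hx)
    · exact Or.inr (by simp)
    · exact Or.inl (hS ▸ Subgroup.subset_closure hx)
  · have hN : N ≤ Subgroup.closure (insert g S) := hS ▸ Subgroup.closure_mono (Set.subset_insert _ _)
    rintro x (hx | hx)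
    · exact hN hx
    · rw [show x = g * (g⁻¹ * x) by group]
      exact mul_mem (Subgroup.subset_closure (Set.mem_insert _ _)) (hN hx)
  · rw [MonoidHom.mk'_apply, hF2 ⟨g, h⟩ (by simp)]
    simp
    exact map_one f
  · have hb : Function.Bijective (fun z : Bool × ↥N =>
        (if z.1 then ⟨g * z.2, Or.inr (by simp)⟩ else ⟨z.2, Or.inl z.2.2⟩ : ↥M)) := by
      constructor
      · rintro ⟨b, y⟩ ⟨c, z⟩ h
        have h' := congrArg Subtype.val h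
        cases b <;> cases c <;> simp at h'
        · rw [h']
        · exact absurd (by have := y.2; rw [h'] at this; simpa using mul_mem this (inv_mem z.2)) hg
        · exact absurd (by have := z.2; rw [← h'] at this; simpa using mul_mem this (inv_mem y.2)) hg
        · rw [h']
      · rintro ⟨x, hx | hx⟩
        · exact ⟨(false, ⟨x, hx⟩), rfl⟩
        · exact ⟨(true, ⟨g⁻¹ * x, hx⟩), Subtype.ext (mul_inv_cancel_left g x)⟩
    rw [← Nat.card_eq_of_bijective _ hb, Nat.card_prod]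
    simp

end CfsgLib.Lie.Chev.Tits
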