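import Cfsg.Agent.Lib.Lie.Chev.CentPair

/-!
# Collection of words in positive root elements over fields of characteristic two
-/

set_option autoImplicit false

namespace CfsgLib.Lie.Chev

open Cfsg.Lie
open scoped MatrixGroups

/-- insertion of a letter in a normal word -/
def ins (T : ℕ → ℕ → List ℕ) : ℕ → ℕ → List ℕ → List ℕ
  | 0, r, l => r :: l
  | _ + 1, r, [] => [r]
  | f + 1, r, m :: l =>
      bif Nat.blt r m then r :: m :: l
      else bif Nat.beq r m then l
      else ins T f m (List.foldr (ins T f) l (r :: T m r))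

/-- the collected form of a word -/
def collect (T : ℕ → ℕ → List ℕ) (L : List ℕ) : List ℕ := List.foldr (ins T 100) [] L

/-- the terms with odd coefficient -/
def oddTerms (D : ChevalleyDatum) (m r : ℕ) : List ℕ :=
  ((D.commTerms m r).filter fun c => decide (c.2.1 % 2 ≠ 0)).map fun c => c.1

namespace Full

variable {D : ChevalleyDatum} {K : Type*} [Field K] (C : Full D)

include C

/-- a root element with parameter one, by number -/
noncomputable def xn (r : ℕ) : GL D.Idx K := if h : r < D.nroots then C.G.xu ⟨r, h⟩ 1 else 1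

/-- the product of a word -/
noncomputable def pr (L : List ℕ) : GL D.Idx K := (L.map C.xn).prod

theorem pr_nil : C.pr (K := K) [] = 1 := rfl

theorem pr_cons (r : ℕ) (L : List ℕ) : C.pr (K := K) (r :: L) = C.xn r * C.pr L := by simp [pr]

theorem pr_append (L M : List ℕ) : C.pr (K := K) (L ++ M) = C.pr L * C.pr M := by simp [pr]

theorem xn_eq {r : ℕ} (h : r < D.nroots) : C.xn (K := K) r = C.G.xu ⟨r, h⟩ 1 := dif_pos h

variable [CharP K 2]

theorem xn_mul_self (r : ℕ) : C.xn (K := K) r * C.xn r = 1 := by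
  unfold xn
  split_ifs
  · rw [← C.G.xu_add, CharTwo.add_self_eq_zero, C.G.xu_zero]
  · rw [mul_one]

/-- the commutation rule -/
theorem xn_swap {m r : ℕ} (hm : m < D.nroots) (hr : r < D.nroots) (pm : D.IsPosRoot m)
    (pr' : D.IsPosRoot r) (hne : r ≠ m) :
    C.xn (K := K) r * C.xn m = C.xn m * C.xn r * C.pr (oddTerms D m r) := by
  have hcm := C.commAt ⟨m, hm⟩ ⟨r, hr⟩ (fun e => hne (congrArg Fin.val e))
    (C.pos_ne_negr (r := ⟨m, hm⟩) (s := ⟨r, hr⟩) pm pr') (1 : K) 1
  unfold CommAt at hcm
  have hw : ∀ w : List (ℕ × ℤ × ℕ × ℕ),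
      ((C.pr (K := K) ((w.filter fun c => decide (c.2.1 % 2 ≠ 0)).map fun c => c.1) : GL D.Idx K) :
        Matrix D.Idx D.Idx K) = wordR K D
          (w.map fun c => (c.1, (c.2.1 : K) * (-1) ^ c.2.2.1 * 1 ^ c.2.2.2)) := by
    intro w
    induction w with
    | nil => simp [C.pr_nil, wordR_nil]
    | cons c w ih =>
      have hc : (c.2.1 : K) * (-1) ^ c.2.2.1 * 1 ^ c.2.2.2 =
          if c.2.1 % 2 ≠ 0 then 1 else 0 := by
        rw [CharTwo.neg_eq, one_pow, one_pow, mul_one, mul_one]
        rcases Int.emod_two_eq_zero_or_one c.2.1 with h | h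
        · obtain ⟨k, hk⟩ := Int.dvd_of_emod_eq_zero h
          rw [if_neg (not_not.2 h), hk, Int.cast_mul]
          push_cast
          rw [CharTwo.two_eq_zero, zero_mul]
        · rw [if_pos (by omega), show c.2.1 = 2 * (c.2.1 / 2) + 1 by omega, Int.cast_add, Int.cast_mul]
          push_cast
          rw [CharTwo.two_eq_zero, zero_mul, zero_add]
      rw [List.map_cons, wordR_cons, hc, ← ih]
      by_cases h : c.2.1 % 2 ≠ 0
      · rw [List.filter_cons_of_pos (by simpa using h), List.map_cons, C.pr_cons, Units.val_mul, if_pos h]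
        congr 1
        unfold xn xN
        by_cases hq : c.1 < D.nroots <;> simp [hq, Good.coe_xu]
      · rw [List.filter_cons_of_neg (by simpa using h), if_neg h]
        have : xN K D c.1 (0 : K) = 1 := by
          unfold xN
          split_ifs
          · exact xg_zero K _
          · rfl
        rw [this, one_mul]
  apply Units.ext
  rw [C.xn_eq hm, C.xn_eq hr, Units.val_mul, Units.val_mul, Units.val_mul, oddTerms, hw]
  simpa [cwR, Good.coe_xu] using hcm

/-- soundness of insertion -/
theorem ins_spec {T : ℕ → ℕ → List ℕ} {p : ℕ → Prop}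
    (hp : ∀ x, p x → x < D.nroots ∧ D.IsPosRoot x)
    (hT : ∀ m r, p m → p r → m < r → T m r = oddTerms D m r ∧ ∀ x ∈ T m r, p x) :
    ∀ (f r : ℕ) (l : List ℕ), p r → (∀ x ∈ l, p x) →
      (∀ x ∈ ins T f r l, p x) ∧ C.pr (K := K) (ins T f r l) = C.xn r * C.pr l := by
  intro f
  induction f with
  | zero =>
    intro r l hr hl
    exact ⟨fun x hx => by rcases List.mem_cons.1 hx with rfl | h; exacts [hr, hl x h], C.pr_cons _ _⟩
  | succ f ih =>
    intro r l hr hl
    cases l with
    | nil => exact ⟨by simpa [ins] using hr, by simp [ins, C.pr_cons]⟩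
    | cons m l =>
      have hm : p m := hl m (by simp)
      have hl' : ∀ x ∈ l, p x := fun x hx => hl x (List.mem_cons_of_mem _ hx)
      rw [ins]
      rcases lt_trichotomy r m with h | h | h
      · rw [show Nat.blt r m = true from Nat.blt_eq ▸ h, cond_true]
        exact ⟨fun x hx => by rcases List.mem_cons.1 hx with rfl | h; exacts [hr, hl x h], C.pr_cons _ _⟩
      · subst h
        rw [show Nat.blt r r = false by rw [← Bool.not_eq_true, Nat.blt_eq]; omega, cond_false,
          show Nat.beq r r = true from natBeq_true rfl, cond_true]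
        exact ⟨hl', by rw [C.pr_cons, ← mul_assoc, C.xn_mul_self, one_mul]⟩
      · rw [show Nat.blt r m = false by rw [← Bool.not_eq_true, Nat.blt_eq]; omega, cond_false,
          show Nat.beq r m = false from natBeq_false (by omega), cond_false]
        have hfold : ∀ L : List ℕ, (∀ x ∈ L, p x) → (∀ x ∈ List.foldr (ins T f) l L, p x) ∧
            C.pr (K := K) (List.foldr (ins T f) l L) = C.pr L * C.pr l := by
          intro L
          induction L with
          | nil => exact fun _ => ⟨hl', by simp [C.pr_nil]⟩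
          | cons a L ihL =>
            intro hL
            obtain ⟨h1, h2⟩ := ihL fun x hx => hL x (List.mem_cons_of_mem _ hx)
            obtain ⟨h3, h4⟩ := ih a _ (hL a (by simp)) h1
            exact ⟨h3, by rw [List.foldr_cons, h4, h2, C.pr_cons, mul_assoc]⟩
        obtain ⟨hTe, hTp⟩ := hT m r hm hr h
        obtain ⟨h1, h2⟩ := hfold (r :: T m r) fun x hx => by
          rcases List.mem_cons.1 hx with rfl | hx
          exacts [hr, hTp x hx]
        obtain ⟨h3, h4⟩ := ih m _ hm h1
        refine ⟨h3, ?_⟩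
        rw [h4, h2, C.pr_cons, C.pr_cons, hTe, ← mul_assoc (C.xn r) (C.xn m),
          C.xn_swap (hp m hm).1 (hp r hr).1 (hp m hm).2 (hp r hr).2 (by omega)]
        simp only [mul_assoc]

/-- soundness of collection -/
theorem collect_spec {T : ℕ → ℕ → List ℕ} {p : ℕ → Prop}
    (hp : ∀ x, p x → x < D.nroots ∧ D.IsPosRoot x)
    (hT : ∀ m r, p m → p r → m < r → T m r = oddTerms D m r ∧ ∀ x ∈ T m r, p x) :
    ∀ L : List ℕ, (∀ x ∈ L, p x) →
      (∀ x ∈ collect T L, p x) ∧ C.pr (K := K) (collect T L) = C.pr L := by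
  intro L
  induction L with
  | nil => exact fun _ => ⟨by simp [collect], rfl⟩
  | cons a L ih =>
    intro hL
    obtain ⟨h1, h2⟩ := ih fun x hx => hL x (List.mem_cons_of_mem _ hx)
    obtain ⟨h3, h4⟩ := C.ins_spec (K := K) hp hT 100 a _ (hL a (by simp)) h1
    exact ⟨h3, by rw [C.pr_cons, ← h2]; exact h4⟩

omit [CharP K 2] in
/-- a sorted non-empty word is not trivial -/
theorem pr_ne_one {m : ℕ} {l : List ℕ} (hm : m < D.nroots) (pm : D.IsPosRoot m)
    (hl : ∀ x ∈ l, m < x ∧ x < D.nroots ∧ D.IsPosRoot x) : C.pr (K := K) (m :: l) ≠ 1 := by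
  intro h
  have hv : C.pr (K := K) l ∈ C.G.Uge (K := K) (m + 1) := list_prod_mem fun y hy => by
    obtain ⟨x, hx, rfl⟩ := List.mem_map.1 hy
    obtain ⟨h1, h2, h3⟩ := hl x hx
    rw [C.xn_eq h2]
    exact C.G.xu_mem_Uge (by simpa using h1) h3 _
  rw [C.pr_cons, C.xn_eq hm] at h
  have := C.G.lowest_unique (r := ⟨m, hm⟩) pm (t := (1 : K)) (t' := 0) hv (one_mem _)
    (by rw [h, C.G.xu_zero, mul_one])
  exact one_ne_zero this.1

end Full

end CfsgLib.Lie.Chev
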