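import Cfsg.Agent.Lib.Lie.Chev.Tits.Unip
import Cfsg.Agent.Lib.Lie.BNNormal
import Cfsg.Agent.Lib.Lie.Chev.Tw.F4Simple

/-!
# ²F₄(2): the character of the Sylow 2-subgroup is invariant under fusion
-/

set_option autoImplicit false
set_option maxRecDepth 100000
set_option maxHeartbeats 400000

namespace CfsgLib.Lie.Chev.Tits

open Cfsg.Lie
open scoped MatrixGroups

theorem no_eq : orbGraphF4.no = 2 := rfl

theorem mapTab_nil (o : ℕ) : mapTab o [] = [] := rfl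

theorem mapTab_cons (o a : ℕ) (L : List ℕ) :
    mapTab o (a :: L) = digit (orbGraphF4.tab.get o) a :: mapTab o L := rfl

attribute [local irreducible] collect tT gen flat cjW kind TF4.C chevF4 swW mapTab inX

/-- conjugation into a finite subgroup gives the normaliser -/
theorem mem_normalizer_of_conj {G : Type*} [Group G] [Finite G] {S : Set G} {x : G}
    (h : ∀ y ∈ S, x * y * x⁻¹ ∈ Subgroup.closure S) :
    x ∈ Subgroup.normalizer (Subgroup.closure S : Set G) := by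
  have h1 : ∀ y ∈ Subgroup.closure S, x * y * x⁻¹ ∈ Subgroup.closure S := fun y hy => by
    induction hy using Subgroup.closure_induction with
    | mem y hy => exact h y hy
    | one => simp
    | mul a b _ _ ha hb =>
      rw [show x * (a * b) * x⁻¹ = (x * a * x⁻¹) * (x * b * x⁻¹) by group]; exact mul_mem ha hb
    | inv a _ ha => rw [show x * a⁻¹ * x⁻¹ = (x * a * x⁻¹)⁻¹ by group]; exact inv_mem ha
  let f : ↥(Subgroup.closure S) → ↥(Subgroup.closure S) := fun y => ⟨x * y * x⁻¹, h1 y y.2⟩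
  have hf : Function.Injective f := fun a b e => by
    have e' : x * (a : G) * x⁻¹ = x * (b : G) * x⁻¹ := congrArg Subtype.val e
    exact Subtype.ext (by simpa using e')
  rw [Subgroup.mem_normalizer_iff]
  refine fun y => ⟨h1 y, fun hy => ?_⟩
  obtain ⟨a, ha⟩ := Finite.surjective_of_injective hf ⟨_, hy⟩
  have e' : x * (a : G) * x⁻¹ = x * y * x⁻¹ := congrArg Subtype.val ha
  have e2 : (a : G) = y := by simpa using e'
  exact e2 ▸ a.2

/-- bookkeeping in a general group -/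
theorem inv_final {G A : Type*} [Group G] [CommGroup A] {N : Subgroup G} (χ : ↥N →* A) (s m : G)
    (hy : m * 1 ∈ N) (h : s * (m * 1) * s⁻¹ ∈ N) (hm : m ∈ N) (h1 : s * m * s⁻¹ ∈ N)
    (e1 : χ ⟨_, h1⟩ = χ ⟨m, hm⟩) : χ ⟨_, h⟩ = χ ⟨_, hy⟩ := by
  simp only [mul_one]
  exact e1

/-- the distinguished involution -/
noncomputable def sw (o : Fin orbGraphF4.no) : GL chevF4.Idx (ZMod 2) := twGp.toPre.nk o

theorem sw_mem (o : Fin orbGraphF4.no) : sw o ∈ Γ := twGp.toPre.nk_mem o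

theorem sw_xu (o : Fin orbGraphF4.no) (r : Fin chevF4.nroots) :
    sw o * TF4.C.G.xu r (1 : ZMod 2) * (sw o)⁻¹ =
      TF4.C.G.xu ((TF4.orbits θ0 hsq).wO o r) 1 := by
  obtain ⟨c, hc⟩ := twGp.toPre.nk_perm o r
  have h1 : ∀ e : ZMod 2, e ≠ 0 → e = 1 := by decide
  have := hc 1
  rwa [h1 _ c.ne_zero, one_mul] at this

theorem sw_ev (o : Fin orbGraphF4.no) :
    ∀ L : List ℕ, (∀ x ∈ L, posN x) → sw o * ev L * (sw o)⁻¹ = ev (mapTab o.val L) := by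
  intro L
  induction L with
  | nil => intro _; rw [mapTab_nil]; show sw o * 1 * (sw o)⁻¹ = 1; simp
  | cons a L ih =>
    intro hL
    have ha := (posN_spec a (hL a (by simp))).1
    have e := mapTab_cons o.val a L
    rw [e]
    unfold ev
    rw [TF4.C.pr_cons, TF4.C.pr_cons,
      show TF4.C.pr (K := ZMod 2) (mapTab o.val L) = _ from (ih fun x hx => hL x (List.mem_cons_of_mem _ hx)).symm]
    have hv := TF4.wO_val θ0 hsq o ⟨a, ha⟩
    have hlt : digit (orbGraphF4.tab.get o.val) a < chevF4.nroots := hv ▸ Fin.isLt _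
    rw [TF4.C.xn_eq ha, TF4.C.xn_eq hlt, ← show (TF4.orbits θ0 hsq).wO o ⟨a, ha⟩ = ⟨_, hlt⟩ from Fin.ext hv,
      ← sw_xu o ⟨a, ha⟩]
    group


theorem o_lt (o : Fin orbGraphF4.no) : o.val < 2 := no_eq ▸ o.isLt

/-- generators outside the orbit -/
noncomputable def Mo (o : ℕ) : Subgroup (GL chevF4.Idx (ZMod 2)) :=
  Subgroup.closure (g '' {j | j < 12 ∧ inX o j = false})

/-- generators of the orbit -/
noncomputable def Xo (o : ℕ) : Subgroup (GL chevF4.Idx (ZMod 2)) :=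
  Subgroup.closure (g '' {j | j < 12 ∧ inX o j = true})

theorem Mo_le (o : ℕ) : Mo o ≤ Ks 0 :=
  Subgroup.closure_mono (Set.image_mono fun _ hk => ⟨Nat.zero_le _, hk.1⟩)

theorem Xo_le (o : ℕ) : Xo o ≤ Ks 0 :=
  Subgroup.closure_mono (Set.image_mono fun _ hk => ⟨Nat.zero_le _, hk.1⟩)

theorem Ks0_le_normalizer {o : ℕ} (ho : o < 2) : Ks 0 ≤ Subgroup.normalizer (Mo o : Set (GL chevF4.Idx (ZMod 2))) := by
  refine (Subgroup.closure_le _).2 ?_
  rintro - ⟨i, ⟨-, hi⟩, rfl⟩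
  refine mem_normalizer_of_conj ?_
  rintro - ⟨j, ⟨hj, hjo⟩, rfl⟩
  rw [conj_eq hi hj]
  refine prod_mem' fun y hy => ?_
  obtain ⟨k, hk, rfl⟩ := List.mem_map.1 hy
  refine Subgroup.subset_closure ⟨k, ⟨(chk_conj_lt i hi j hj k hk).1, ?_⟩, rfl⟩
  rcases chk_inX o ho i hi j hj with h | h
  · rw [h] at hjo; exact absurd hjo (by decide)
  · simpa using List.all_eq_true.1 h k hk

theorem decomp {o : ℕ} (ho : o < 2) {x : GL chevF4.Idx (ZMod 2)} (hx : x ∈ Ks 0) :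
    ∃ m ∈ Mo o, ∃ c ∈ Xo o, x = m * c := by
  induction hx using Subgroup.closure_induction with
  | mem y hy =>
    obtain ⟨j, ⟨-, hj⟩, rfl⟩ := hy
    cases h : inX o j with
    | false => exact ⟨_, Subgroup.subset_closure ⟨j, ⟨hj, h⟩, rfl⟩, 1, one_mem _, (mul_one _).symm⟩
    | true => exact ⟨1, one_mem _, _, Subgroup.subset_closure ⟨j, ⟨hj, h⟩, rfl⟩, (one_mul _).symm⟩
  | one => exact ⟨1, one_mem _, 1, one_mem _, (one_mul _).symm⟩
  | mul a b _ _ ha hb =>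
    obtain ⟨m, hm, c, hc, rfl⟩ := ha
    obtain ⟨m', hm', c', hc', rfl⟩ := hb
    refine ⟨m * (c * m' * c⁻¹), mul_mem hm
      ((Subgroup.mem_normalizer_iff.1 (Ks0_le_normalizer ho (Xo_le o hc)) m').1 hm'),
      c * c', mul_mem hc hc', by group⟩
  | inv a _ ha =>
    obtain ⟨m, hm, c, hc, rfl⟩ := ha
    exact ⟨c⁻¹ * m⁻¹ * c⁻¹⁻¹,
      (Subgroup.mem_normalizer_iff.1 (Ks0_le_normalizer ho (inv_mem (Xo_le o hc))) _).1 (inv_mem hm),
      c⁻¹, inv_mem hc, by group⟩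

theorem sw_Mo (o : Fin orbGraphF4.no) {m : GL chevF4.Idx (ZMod 2)} (hm : m ∈ Mo o.val) :
    ∃ h : sw o * m * (sw o)⁻¹ ∈ Ks 0, χ0 ⟨_, h⟩ = χ0 ⟨m, Mo_le _ hm⟩ := by
  induction hm using Subgroup.closure_induction with
  | mem y hy =>
    obtain ⟨j, ⟨hj, hjo⟩, rfl⟩ := hy
    rcases chk_swap o.val (o_lt o) j hj with ⟨h, -⟩ | ⟨-, hp, he, hpar, hlt⟩
    · rw [h] at hjo; exact absurd hjo (by decide)
    have hlt' : ∀ k ∈ swW o.val j, k < 12 := fun k hk => of_decide_eq_true (List.all_eq_true.1 hlt k hk)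
    have e : sw o * g j * (sw o)⁻¹ = ((swW o.val j).map g).prod := by
      rw [g, sw_ev o _ (gen_pos hj), ← ev_flat]
      exact ev_eq (fun x hx => of_decide_eq_true (List.all_eq_true.1 hp x hx)) (flat_pos hlt') he
    obtain ⟨h1, e1⟩ := hom_word χ0 (swW o.val j) fun k hk =>
      ⟨g_mem_Ks (Nat.zero_le k) (hlt' k hk), χ0_g (hlt' k hk)⟩
    refine ⟨e ▸ h1, ?_⟩
    calc χ0 ⟨sw o * g j * (sw o)⁻¹, _⟩ = χ0 ⟨_, h1⟩ := congrArg χ0 (Subtype.ext e)
      _ = sgn (par (swW o.val j)) := e1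
      _ = sgn (kind j) := by rw [hpar]
      _ = _ := (χ0_g hj).symm
  | one =>
    refine ⟨by simp, congrArg χ0 (Subtype.ext (by simp))⟩
  | mul a b ha hb iha ihb =>
    obtain ⟨h1, e1⟩ := iha
    obtain ⟨h2, e2⟩ := ihb
    have e : sw o * (a * b) * (sw o)⁻¹ = (sw o * a * (sw o)⁻¹) * (sw o * b * (sw o)⁻¹) := by group
    refine ⟨e ▸ mul_mem h1 h2, ?_⟩
    calc χ0 ⟨sw o * (a * b) * (sw o)⁻¹, _⟩ = χ0 (⟨_, h1⟩ * ⟨_, h2⟩) := congrArg χ0 (Subtype.ext e)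
      _ = χ0 (⟨a, Mo_le _ ha⟩ * ⟨b, Mo_le _ hb⟩) := by rw [map_mul, map_mul, e1, e2]
      _ = _ := rfl
  | inv a ha iha =>
    obtain ⟨h1, e1⟩ := iha
    have e : sw o * a⁻¹ * (sw o)⁻¹ = (sw o * a * (sw o)⁻¹)⁻¹ := by group
    refine ⟨e ▸ inv_mem h1, ?_⟩
    calc χ0 ⟨sw o * a⁻¹ * (sw o)⁻¹, _⟩ = χ0 (⟨_, h1⟩⁻¹) := congrArg χ0 (Subtype.ext e)
      _ = χ0 (⟨a, Mo_le _ ha⟩⁻¹) := by rw [map_inv, map_inv, e1]
      _ = _ := rfl

theorem sw_Xo (o : Fin orbGraphF4.no) {c : GL chevF4.Idx (ZMod 2)} (hc : c ∈ Xo o.val) :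
    sw o * c * (sw o)⁻¹ ∈ chevF4.negUnipotent (ZMod 2) := by
  induction hc using Subgroup.closure_induction with
  | mem y hy =>
    obtain ⟨j, ⟨hj, hjo⟩, rfl⟩ := hy
    rcases chk_swap o.val (o_lt o) j hj with ⟨-, hn⟩ | ⟨h, -⟩
    · rw [g, sw_ev o _ (gen_pos hj)]
      refine prod_mem' fun y hy => ?_
      obtain ⟨x, hx, rfl⟩ := List.mem_map.1 hy
      have hx24 : x < 24 := of_decide_eq_true (List.all_eq_true.1 hn x hx)
      have hxl : x < chevF4.nroots := by rw [nroots_eq]; omega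
      rw [TF4.C.xn_eq hxl]
      refine TF4.C.G.xu_mem_V ((TF4.C.G.isNegRoot_iff_not_pos _).2 fun hpos => ?_) _
      rw [TF4.C.G.pos_iff_half, show chevF4.nroots / 2 = 24 by rw [nroots_eq]] at hpos
      exact absurd hpos (by simpa using hx24)
    · rw [h] at hjo; exact absurd hjo (by decide)
  | one => simp
  | mul a b _ _ ha hb =>
    rw [show sw o * (a * b) * (sw o)⁻¹ = (sw o * a * (sw o)⁻¹) * (sw o * b * (sw o)⁻¹) by group]
    exact mul_mem ha hb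
  | inv a _ ha =>
    rw [show sw o * a⁻¹ * (sw o)⁻¹ = (sw o * a * (sw o)⁻¹)⁻¹ by group]; exact inv_mem ha

theorem Ks0_le_pos : Ks 0 ≤ chevF4.posUnipotent (ZMod 2) := by
  rw [Ks0_eq]; exact inf_le_left

theorem sw_inv (o : Fin orbGraphF4.no) {y : GL chevF4.Idx (ZMod 2)} (hy : y ∈ Ks 0)
    (h : sw o * y * (sw o)⁻¹ ∈ Ks 0) : χ0 ⟨_, h⟩ = χ0 ⟨y, hy⟩ := by
  obtain ⟨m, hm, c, hc, rfl⟩ := decomp (o_lt o) hy
  obtain ⟨h1, e1⟩ := sw_Mo o hm
  have h2 : sw o * c * (sw o)⁻¹ ∈ Ks 0 := by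
    rw [show sw o * c * (sw o)⁻¹ = (sw o * m * (sw o)⁻¹)⁻¹ * (sw o * (m * c) * (sw o)⁻¹) by group]
    exact mul_mem (inv_mem h1) h
  have h3 : sw o * c * (sw o)⁻¹ = 1 := Subgroup.mem_bot.1 (TF4.C.G.U_inf_V_eq (K := ZMod 2) ▸
    Subgroup.mem_inf.2 ⟨Ks0_le_pos h2, sw_Xo o hc⟩)
  rw [conj_eq_one_iff] at h3
  subst h3
  exact inv_final χ0 _ m hy h (Mo_le _ hm) h1 e1

end CfsgLib.Lie.Chev.Tits
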