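import Cfsg.Agent.Lib.Lie.Chev.Tits.Data
import Cfsg.Agent.Lib.Lie.Chev.Tits.Ext
import Cfsg.Agent.Lib.Lie.Chev.Tw.F4Gp

/-!
# The unipotent group of ²F₄(2): generators and its character
-/

set_option autoImplicit false
set_option maxRecDepth 100000
set_option maxHeartbeats 400000

namespace CfsgLib.Lie.Chev.Tits

open Cfsg.Lie
open scoped MatrixGroups

/-- products of lists, in a general group -/
theorem prod_mem' {G : Type*} [Group G] {H : Subgroup G} {l : List G} (h : ∀ y ∈ l, y ∈ H) :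
    l.prod ∈ H := list_prod_mem h

/-- the group ²F₄(2) -/
abbrev Γ : Subgroup (GL chevF4.Idx (ZMod 2)) := twistedF4 (ZMod 2) 1

/-- the trivial automorphism -/
abbrev θ0 : ZMod 2 ≃+* ZMod 2 := RingEquiv.refl _

theorem hsq : ∀ x : ZMod 2, θ0.symm x = θ0 x ^ 2 := by
  intro x
  show x = x ^ 2
  revert x
  decide

theorem hθ : ∀ x : ZMod 2, θ0 x = x ^ 1 := fun x => (pow_one x).symm

theorem twGp : TwGp (TF4.orbits θ0 hsq) Γ := TF4.twGp θ0 hsq hθ

/-- the predicate of positive root numbers -/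
abbrev posN (x : ℕ) : Prop := 24 ≤ x ∧ x < 48

theorem nroots_eq : chevF4.nroots = 48 := by decide +kernel

theorem posN_spec (x : ℕ) (h : posN x) : x < chevF4.nroots ∧ chevF4.IsPosRoot x := by
  have hx : x < chevF4.nroots := by rw [nroots_eq]; exact h.2
  refine ⟨hx, (TF4.C.G.pos_iff_half ⟨x, hx⟩).2 ?_⟩
  show chevF4.nroots / 2 ≤ x
  rw [nroots_eq]; exact h.1

theorem tT_spec (m r : ℕ) (hm : posN m) (hr : posN r) (h : m < r) :
    tT m r = oddTerms chevF4 m r ∧ ∀ x ∈ tT m r, posN x := by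
  rcases chk_T m hm.2 r hr.2 with h' | h' | ⟨h1, h2⟩
  · exact absurd hm.1 (by omega)
  · omega
  · exact ⟨h1, fun x hx => of_decide_eq_true (List.all_eq_true.1 h2 x hx)⟩

/-- the value of a word -/
noncomputable abbrev ev (L : List ℕ) : GL chevF4.Idx (ZMod 2) := TF4.C.pr L

theorem ev_eq {L M : List ℕ} (hL : ∀ x ∈ L, posN x) (hM : ∀ x ∈ M, posN x)
    (h : collect tT L = collect tT M) : ev L = ev M := by
  unfold ev
  rw [← (TF4.C.collect_spec (K := ZMod 2) posN_spec tT_spec L hL).2, h,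
    (TF4.C.collect_spec (K := ZMod 2) posN_spec tT_spec M hM).2]

theorem flat_nil : flat [] = [] := rfl

theorem flat_cons (k : ℕ) (W : List ℕ) : flat (k :: W) = gen k ++ flat W := rfl

theorem flat_eq (W : List ℕ) : flat W = (W.map gen).flatten := rfl

attribute [local irreducible] collect tT gen flat cjW kind TF4.C

/-- the generators -/
noncomputable def g (i : ℕ) : GL chevF4.Idx (ZMod 2) := ev (gen i)

theorem gen_pos {i : ℕ} (hi : i < 12) : ∀ x ∈ gen i, posN x := (chk_gens.2 i hi).1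

theorem flat_pos {W : List ℕ} (hW : ∀ k ∈ W, k < 12) : ∀ x ∈ flat W, posN x := by
  intro x hx
  rw [flat_eq] at hx
  obtain ⟨l, hl, hxl⟩ := List.mem_flatten.1 hx
  obtain ⟨k, hk, rfl⟩ := List.mem_map.1 hl
  exact gen_pos (hW k hk) x hxl

theorem ev_flat (W : List ℕ) : ev (flat W) = (W.map g).prod := by
  induction W with
  | nil => rw [flat_nil]; rfl
  | cons k W ih =>
    rw [List.map_cons, List.prod_cons, ← ih, flat_cons]
    exact TF4.C.pr_append _ _

theorem conj_eq {i j : ℕ} (hi : i < 12) (hj : j < 12) :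
    g i * g j * (g i)⁻¹ = ((cjW i j).map g).prod := by
  have hW : ∀ k ∈ cjW i j, k < 12 := fun k hk => (chk_conj_lt i hi j hj k hk).1
  have h := ev_eq (L := gen i ++ gen j) (M := flat (cjW i j) ++ gen i) (fun x hx => by
      rcases List.mem_append.1 hx with h | h
      exacts [gen_pos hi x h, gen_pos hj x h]) (fun x hx => by
      rcases List.mem_append.1 hx with h | h
      exacts [flat_pos hW x h, gen_pos hi x h]) (chk_conj i hi j hj).1
  rw [← ev_flat, mul_inv_eq_iff_eq_mul]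
  simpa [g, ev, TF4.C.pr_append] using h

theorem sq_eq {i : ℕ} (hi : i < 12) : g i * g i = ((sqW.getD i []).map g).prod := by
  obtain ⟨h1, -, h3⟩ := chk_sq i hi
  have h := ev_eq (L := gen i ++ gen i) (M := flat (sqW.getD i [])) (fun x hx => by
      rcases List.mem_append.1 hx with h | h <;> exact gen_pos hi x h)
      (flat_pos fun k hk => (h3 k hk).2) h1
  rw [← ev_flat]
  simpa [g, ev, TF4.C.pr_append] using h

/-- the truncated series -/
noncomputable def Ks (i : ℕ) : Subgroup (GL chevF4.Idx (ZMod 2)) :=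
  Subgroup.closure (g '' {k | i ≤ k ∧ k < 12})

theorem g_mem_Ks {i k : ℕ} (h1 : i ≤ k) (h2 : k < 12) : g k ∈ Ks i :=
  Subgroup.subset_closure ⟨k, ⟨h1, h2⟩, rfl⟩

theorem word_mem_Ks {i : ℕ} {W : List ℕ} (h : ∀ k ∈ W, i ≤ k ∧ k < 12) : (W.map g).prod ∈ Ks i :=
  prod_mem' fun y hy => by
    obtain ⟨k, hk, rfl⟩ := List.mem_map.1 hy
    exact g_mem_Ks (h k hk).1 (h k hk).2

theorem Ks_anti {i j : ℕ} (h : i ≤ j) : Ks j ≤ Ks i :=
  Subgroup.closure_mono (Set.image_mono fun _ hk => ⟨h.trans hk.1, hk.2⟩)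

/-- the values -/
def sgn (b : Bool) : Multiplicative (ZMod 2) := Multiplicative.ofAdd (if b then 1 else 0)

theorem sgn_xor (a b : Bool) : sgn (xor a b) = sgn a * sgn b := by
  cases a <;> cases b <;> decide

theorem par_cons (k : ℕ) (W : List ℕ) : par (k :: W) = xor (kind k) (par W) := rfl

theorem hom_word {N : Subgroup (GL chevF4.Idx (ZMod 2))} (f : ↥N →* Multiplicative (ZMod 2)) :
    ∀ W : List ℕ, (∀ k ∈ W, ∃ h : g k ∈ N, f ⟨g k, h⟩ = sgn (kind k)) →
      ∃ h : (W.map g).prod ∈ N, f ⟨_, h⟩ = sgn (par W) := by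
  intro W
  induction W with
  | nil => exact fun _ => ⟨one_mem N, (congrArg f (Subtype.ext (by simp) : (⟨_, one_mem N⟩ : ↥N) = 1)).trans (map_one f)⟩
  | cons k W ih =>
    intro hW
    obtain ⟨h1, e1⟩ := hW k (by simp)
    obtain ⟨h2, e2⟩ := ih fun x hx => hW x (List.mem_cons_of_mem _ hx)
    refine ⟨by simpa using mul_mem h1 h2, ?_⟩
    rw [par_cons, sgn_xor, ← e1, ← e2, ← map_mul]
    exact congrArg f (Subtype.ext (by simp))

theorem g_not_mem {i : ℕ} (hi : i < 12) : g i ∉ Ks (i + 1) := by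
  obtain ⟨hp, ht, hne, hlt⟩ := chk_gens.2 i hi
  intro h
  cases hg : gen i with
  | nil => exact hne hg
  | cons m l =>
    rw [hg] at hp ht hlt
    simp only [List.headI_cons, List.tail_cons] at ht hlt
    obtain ⟨hm, hmp⟩ := posN_spec m (hp m (by simp))
    have hv : ev l ∈ TF4.C.G.Uge (K := ZMod 2) (m + 1) := prod_mem' fun y hy => by
      obtain ⟨x, hx, rfl⟩ := List.mem_map.1 hy
      obtain ⟨hxl, hxp⟩ := posN_spec x (hp x (by simp [hx]))
      rw [TF4.C.xn_eq hxl]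
      exact TF4.C.G.xu_mem_Uge (by exact Nat.succ_le_of_lt (ht x hx)) hxp _
    have hle : Ks (i + 1) ≤ TF4.C.G.Uge (K := ZMod 2) (m + 1) := by
      rw [Ks, Subgroup.closure_le]
      rintro - ⟨k, ⟨hk1, hk2⟩, rfl⟩
      refine prod_mem' fun y hy => ?_
      obtain ⟨x, hx, rfl⟩ := List.mem_map.1 hy
      obtain ⟨hxl, hxp⟩ := posN_spec x (gen_pos hk2 x hx)
      rw [TF4.C.xn_eq hxl]
      refine TF4.C.G.xu_mem_Uge ?_ hxp _
      have h1 := hlt k hk2 (by omega)
      obtain ⟨-, ht', -, -⟩ := chk_gens.2 k hk2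
      cases hgk : gen k with
      | nil => rw [hgk] at hx; simp at hx
      | cons a b =>
        rw [hgk] at hx ht' h1
        simp only [List.headI_cons, List.tail_cons] at ht' h1
        rcases List.mem_cons.1 hx with rfl | hx
        · exact Nat.succ_le_of_lt h1
        · have := ht' x hx; show m + 1 ≤ x; omega
    have h2 : g i = TF4.C.G.xu ⟨m, hm⟩ 1 * ev l := by
      rw [g, hg, ev, TF4.C.pr_cons, TF4.C.xn_eq hm]
    have := TF4.C.G.lowest_unique (r := ⟨m, hm⟩) hmp (t := (1 : ZMod 2)) (t' := 0)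
      (v' := g i) hv (hle h) (by rw [TF4.C.G.xu_zero, one_mul, ← h2])
    exact one_ne_zero this.1

/-- the character exists on every term of the series -/
theorem exists_char : ∀ d i : ℕ, i + d = 12 → ∃ f : ↥(Ks i) →* Multiplicative (ZMod 2),
    (∀ k (h1 : i ≤ k) (h2 : k < 12), f ⟨g k, g_mem_Ks h1 h2⟩ = sgn (kind k)) ∧
    Nat.card ↥(Ks i) = 2 ^ d := by
  intro d
  induction d with
  | zero =>
    intro i hi
    refine ⟨1, fun k h1 h2 => absurd h2 (by omega), ?_⟩
    have : {k : ℕ | i ≤ k ∧ k < 12} = ∅ := Set.eq_empty_iff_forall_notMem.2 fun k hk => by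
      have := hk.1; have := hk.2; omega
    rw [Ks, this, Set.image_empty, Subgroup.closure_empty, Subgroup.card_bot, pow_zero]
  | succ d ih =>
    intro i hi
    obtain ⟨f, hf, hcard⟩ := ih (i + 1) (by omega)
    have hi' : i < 12 := by omega
    have hw : ∀ W : List ℕ, (∀ k ∈ W, i + 1 ≤ k ∧ k < 12) →
        ∃ h : (W.map g).prod ∈ Ks (i + 1), f ⟨_, h⟩ = sgn (par W) := fun W hW =>
      hom_word f W fun k hk => ⟨g_mem_Ks (hW k hk).1 (hW k hk).2, hf k (hW k hk).1 (hW k hk).2⟩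
    obtain ⟨hs1, hs2⟩ := hw (sqW.getD i []) fun k hk => ⟨((chk_sq i hi').2.2 k hk).1, ((chk_sq i hi').2.2 k hk).2⟩
    have h2 : g i * g i ∈ Ks (i + 1) := sq_eq hi' ▸ hs1
    have hf2 : f ⟨g i * g i, h2⟩ = sgn (kind i) * sgn (kind i) := by
      rw [show (⟨g i * g i, h2⟩ : ↥(Ks (i + 1))) = ⟨_, hs1⟩ from Subtype.ext (sq_eq hi'), hs2,
        (chk_sq i hi').2.1]
      cases kind i <;> decide
    obtain ⟨M, f', hM, -, hres, hgi, hcardM⟩ := exists_hom_insert f (a := sgn (kind i)) (g_not_mem hi')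
      h2 hf2 (S := g '' {k | i + 1 ≤ k ∧ k < 12}) rfl (by
        rintro x hx ⟨k, ⟨hk1, hk2⟩, rfl⟩
        obtain ⟨hc1, hc2⟩ := hw (cjW i k) fun m hm => by
          obtain ⟨h1, h3⟩ := chk_conj_lt i hi' k hk2 m hm
          exact ⟨h3 (by omega), h1⟩
        refine ⟨conj_eq hi' hk2 ▸ hc1, ?_⟩
        rw [show (⟨g i * g k * (g i)⁻¹, conj_eq hi' hk2 ▸ hc1⟩ : ↥(Ks (i + 1))) = ⟨_, hc1⟩ from
          Subtype.ext (conj_eq hi' hk2), hc2, (chk_conj i hi' k hk2).2]
        exact (hf k hk1 hk2).symm)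
    have hKs : Ks i = M := by
      rw [← hM, Ks, ← Set.image_insert_eq]
      congr 2
      ext k
      simp only [Set.mem_ofPred_eq, Set.mem_insert_iff]
      omega
    refine ⟨f'.comp (Subgroup.inclusion hKs.le), fun k h1 h2' => ?_, ?_⟩
    · rcases Nat.eq_or_lt_of_le h1 with rfl | h1'
      · exact hgi _
      · exact (hres _ (g_mem_Ks h1' h2') _).trans (hf k h1' h2')
    · rw [hKs, hcardM, hcard, pow_succ']

/-- the character of the unipotent group -/
noncomputable def χ0 : ↥(Ks 0) →* Multiplicative (ZMod 2) := (exists_char 12 0 rfl).choose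

theorem χ0_g {k : ℕ} (hk : k < 12) :
    χ0 ⟨g k, g_mem_Ks (Nat.zero_le k) hk⟩ = sgn (kind k) :=
  (exists_char 12 0 rfl).choose_spec.1 k (Nat.zero_le k) hk

theorem card_Ks0 : Nat.card ↥(Ks 0) = 2 ^ 12 := (exists_char 12 0 rfl).choose_spec.2

theorem g_fix {i : ℕ} (hi : i < 12) :
    g i ∈ (TF4.twist θ0 hsq).Fix ⊓ chevF4.posUnipotent (ZMod 2) := by
  have hp := gen_pos hi
  refine ⟨?_, prod_mem' fun y hy => ?_⟩
  · let l : List (Fin chevF4.nroots × ZMod 2) :=
      (gen i).attach.map fun x => (⟨x.1, (posN_spec x.1 (hp x.1 x.2)).1⟩, 1)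
    have he : (l.map fun p => TF4.C.G.xu p.1 p.2).prod = g i := by
      refine congrArg List.prod ?_
      rw [List.map_map]
      exact (List.map_congr_left fun x _ => (TF4.C.xn_eq _).symm).trans
        (List.attach_map_val (f := TF4.C.xn))
    rw [← he]
    refine (TF4.twist θ0 hsq).mem_Fix_list l ?_
    rw [he]
    have h1 : ∀ e : ZMod 2, e ≠ 0 → e = 1 := by decide
    have hlen : ((gen i).map fun r => graphF4.p.get r) = l.map fun p => ((TF4.twist θ0 hsq).p p.1).val := by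
      rw [List.map_map]
      exact (List.attach_map_val (f := fun r => graphF4.p.get r)).symm
    have hpos : ∀ x ∈ (gen i).map fun r => graphF4.p.get r, posN x := by
      rw [hlen]
      intro x hx
      obtain ⟨p, hpm, rfl⟩ := List.mem_map.1 hx
      obtain ⟨a, ha, rfl⟩ := List.mem_map.1 hpm
      have h2 := ((TF4.twist θ0 hsq).p_pos ⟨a.1, (posN_spec a.1 (hp a.1 a.2)).1⟩).2
        (posN_spec a.1 (hp a.1 a.2)).2
      rw [TF4.C.G.pos_iff_half, show chevF4.nroots / 2 = 24 by rw [nroots_eq]] at h2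
      refine ⟨h2, ?_⟩
      have h3 := ((TF4.twist θ0 hsq).p ⟨a.1, (posN_spec a.1 (hp a.1 a.2)).1⟩).isLt
      exact lt_of_lt_of_eq h3 nroots_eq
    refine Eq.trans ?_ (ev_eq hpos hp (chk_fix i hi))
    rw [hlen, ev, Full.pr, List.map_map, List.map_map, List.map_map]
    refine congrArg List.prod (List.map_congr_left fun a ha => ?_)
    simp only [Function.comp_apply]
    rw [TF4.C.xn_eq (Fin.isLt _), map_one, mul_one,
      h1 _ ((TF4.twist θ0 hsq).eps_ne _)]
  · obtain ⟨x, hx, rfl⟩ := List.mem_map.1 hy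
    obtain ⟨hxl, hxp⟩ := posN_spec x (hp x hx)
    rw [TF4.C.xn_eq hxl]
    exact TF4.C.G.xu_mem_U hxp _

theorem card_facts :
    Nat.card ↥(chevF4.posUnipotent (ZMod 2) ⊓ Γ) = 2 ^ 12 ∧
    Nat.card ↥(chevF4.diagonalSubgroup (ZMod 2) ⊓ Γ) = 1 ∧ Nat.card ↥Γ = 35942400 := by
  have h := TF4.summary (K := ZMod 2) (m := 0) (ZMod.card 2)
  obtain ⟨-, h1, h2, h3, -⟩ := h
  simp only [pow_zero, Nat.mul_zero, Nat.zero_add, pow_one] at h1 h2 h3
  exact ⟨h1, h2.trans (by norm_num), h3.trans (by norm_num)⟩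

theorem Ks0_eq : Ks 0 = chevF4.posUnipotent (ZMod 2) ⊓ Γ := by
  refine Subgroup.eq_of_le_of_card_ge ?_ (by rw [card_Ks0, card_facts.1])
  rw [twGp.U_eq, Ks, Subgroup.closure_le]
  rintro - ⟨k, ⟨-, hk⟩, rfl⟩
  exact g_fix hk

end CfsgLib.Lie.Chev.Tits
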